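import Groth.Agent.Lib.ModM1.Push
import Groth.Agent.Lib.ModM1.Stalk

/-!
A module whose sections over affine opens localise is quasi-coherent.
-/

set_option autoImplicit false

universe u

open CategoryTheory Limits AlgebraicGeometry Opposite TopologicalSpace

namespace Groth.Agent.Twist

open Groth.Agent.M1

variable {X : Scheme.{u}}

theorem appIso_inv_fromSpec {U : X.Opens} (hU : IsAffineOpen U) (r : Γ(X, U)) (W : (Spec Γ(X, U)).Opens)
    (h : hU.fromSpec ''ᵁ W ≤ U) :
    (hU.fromSpec.appIso W).inv (rs W (gs r)) = X.presheaf.map (homOfLE h).op r := by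
  have e := fromSpec_appIso_inv hU r
  have h2 := ConcreteCategory.congr_hom
    (hU.fromSpec.appIso_inv_naturality (homOfLE (le_top : W ≤ ⊤)).op)
    ((Spec Γ(X, U)).presheaf.map (⊤ : (Spec Γ(X, U)).Opens).leTop.op ((Scheme.ΓSpecIso Γ(X, U)).inv r))
  simp only [ConcreteCategory.comp_apply, e] at h2
  convert h2 using 2
  · exact (ConcreteCategory.congr_hom ((Spec Γ(X, U)).presheaf.map_comp
      (⊤ : (Spec Γ(X, U)).Opens).leTop.op (homOfLE (le_top : W ≤ ⊤)).op) _)
  · exact ConcreteCategory.congr_hom (X.presheaf.map_comp _ _) r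

/-- Quasi-coherence from localisation of sections on an affine open. -/
theorem isQCoh_restrict_fromSpec_of_localize (M : X.Modules) {U : X.Opens} (hU : IsAffineOpen U)
    (hinj : ∀ (r : Γ(X, U)) (t : Γ(M, U)), mres M (X.basicOpen_le r) t = 0 → ∃ n : ℕ, r ^ n • t = 0)
    (hsurj : ∀ (r : Γ(X, U)) (s : Γ(M, X.basicOpen r)), ∃ (n : ℕ) (t : Γ(M, U)),
      mres M (X.basicOpen_le r) t = ores (X.basicOpen_le r) r ^ n • s) :
    Coh.IsQCoh (M.restrict hU.fromSpec) := by
  have hle : ∀ r : Γ(X, U), hU.fromSpec ''ᵁ (⊤ ⊓ (Spec Γ(X, U)).basicOpen (gs r)) = X.basicOpen r := fun r => by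
    rw [basicOpen_gs, top_inf_eq]; exact hU.fromSpec_image_basicOpen r
  refine isQuasicoherent_of_loc _ (fun r t ht => ?_) (fun r s => ?_)
  · have h0 : mres M (X.basicOpen_le r) (affineSec M hU t) = 0 := by
      rw [affineSec_apply, mres_mres]
      have ht' : mres M (hU.fromSpec.image_mono (inf_le_left : ⊤ ⊓ (Spec Γ(X, U)).basicOpen (gs r) ≤ ⊤))
          ((M.restrictAppIso hU.fromSpec ⊤).hom t) = 0 := ht
      rw [← mres_mres M (hU.fromSpec.image_mono (inf_le_left : ⊤ ⊓ (Spec Γ(X, U)).basicOpen (gs r) ≤ ⊤))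
        (hle r).ge, ht', map_zero]
    obtain ⟨n, hn⟩ := hinj r _ h0
    refine ⟨n, (affineSecEquiv M hU).injective ?_⟩
    rw [← pow_smul_eq, map_zero]
    exact ((affineSecEquiv M hU).map_smul (r ^ n) t).trans hn
  · let W := (⊤ : (Spec Γ(X, U)).Opens) ⊓ (Spec Γ(X, U)).basicOpen (gs r)
    obtain ⟨n, t, ht⟩ := hsurj r (mres M (hle r).ge ((M.restrictAppIso hU.fromSpec W).hom s))
    refine ⟨n, (affineSecEquiv M hU).symm t, ?_⟩
    refine ((ConcreteCategory.isIso_iff_bijective (M.restrictAppIso hU.fromSpec W).hom).1 inferInstance).1 ?_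
    rw [Scheme.Modules.smul_restrictAppIso_hom_apply, map_pow, appIso_inv_fromSpec hU r W ((hle r).le.trans (X.basicOpen_le r))]
    have hst : (M.restrictAppIso hU.fromSpec W).hom
        (mres (M.restrict hU.fromSpec) (inf_le_left : W ≤ ⊤) ((affineSecEquiv M hU).symm t)) =
        mres M ((hle r).le.trans (X.basicOpen_le r)) t := by
      show mres M (hU.fromSpec.image_mono (inf_le_left : W ≤ ⊤)) (mres M (fromSpec_image_top hU).le t) = _
      rw [mres_mres]
    refine hst.trans ?_
    rw [← mres_mres M (X.basicOpen_le r) (hle r).le, ht, mres_smul, map_pow, mres_mres, mres_id, ores_ores]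

end Groth.Agent.Twist
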