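import Groth.Agent.Lib.Twist.Frac
import Groth.Agent.Lib.Twist.Localize

/-!
`O(n)` is quasi-coherent on `Proj` of any graded ring.
-/

set_option autoImplicit false

open CategoryTheory CategoryTheory.Limits AlgebraicGeometry TopologicalSpace Opposite HomogeneousLocalization

universe u

namespace Groth.Agent.Twist

open _root_.Twist

variable {R A : Type u} [CommRing R] [CommRing A] [Algebra R A] (𝒜 : ℕ → Submodule R A) [GradedAlgebra 𝒜]

theorem valO_mul {U : (Proj 𝒜).Opens} (r r' : Γ(Proj 𝒜, U)) (x : ProjectiveSpectrum 𝒜) (hx : x ∈ U) :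
    valO (r * r') x hx = valO r x hx * valO r' x hx := HomogeneousLocalization.val_mul _ _

theorem valO_pow {U : (Proj 𝒜).Opens} (r : Γ(Proj 𝒜, U)) (k : ℕ) (x : ProjectiveSpectrum 𝒜) (hx : x ∈ U) :
    valO (r ^ k) x hx = valO r x hx ^ k := by
  induction k with
  | zero => rw [pow_zero, pow_zero]; exact HomogeneousLocalization.val_one
  | succ k ih => rw [pow_succ, valO_mul, ih, pow_succ]

theorem valO_map {U V : (Proj 𝒜).Opens} (h : V ≤ U) (r : Γ(Proj 𝒜, U)) (x : ProjectiveSpectrum 𝒜) (hx : x ∈ V) :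
    valO ((Proj 𝒜).presheaf.map (homOfLE h).op r) x hx = valO r x (h hx) := rfl

theorem valO_one {U : (Proj 𝒜).Opens} (x : ProjectiveSpectrum 𝒜) (hx : x ∈ U) :
    valO (1 : Γ(Proj 𝒜, U)) x hx = 1 := HomogeneousLocalization.val_one

theorem mk_pow {x : ProjectiveSpectrum 𝒜} {b t : A} (ht : t ∉ x.asHomogeneousIdeal) (k : ℕ) :
    Localization.mk b (⟨t, ht⟩ : x.asHomogeneousIdeal.toIdeal.primeCompl) ^ k =
      Localization.mk (b ^ k) ⟨t ^ k, pow_notMem 𝒜 ht k⟩ := Localization.mk_pow _ _ _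

/-- The non-vanishing locus of the function `b / f ^ j` on `D₊(f)` is `D₊(fb)`. -/
theorem basicOpen_awayToSection {f b : A} {d j : ℕ} (_hd : 0 < d) (hf : f ∈ 𝒜 d) (hb : b ∈ 𝒜 (j • d)) :
    (Proj 𝒜).basicOpen (Proj.awayToSection 𝒜 f (Away.mk 𝒜 hf j b hb)) = Proj.basicOpen 𝒜 (f * b) := by
  set r := Proj.awayToSection 𝒜 f (Away.mk 𝒜 hf j b hb)
  have hr : ∀ x (hx : x ∈ Proj.basicOpen 𝒜 f), valO r x hx = Localization.mk b ⟨f ^ j, pow_notMem 𝒜 hx j⟩ :=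
    fun x hx => valO_awayToSection 𝒜 hf hb x hx (pow_notMem 𝒜 hx j)
  refine le_antisymm (fun (x : ProjectiveSpectrum 𝒜) hx hfb => ?_) fun (x : ProjectiveSpectrum 𝒜) hx => ?_
  · have hxU : x ∈ Proj.basicOpen 𝒜 f := (Proj 𝒜).basicOpen_le r hx
    have hbx : b ∈ x.asHomogeneousIdeal := (x.isPrime.mem_or_mem hfb).resolve_left hxU
    have hu : IsUnit ((Proj 𝒜).presheaf.map (homOfLE ((Proj 𝒜).basicOpen_le r)).op r) :=
      (Proj 𝒜).toRingedSpace.isUnit_res_basicOpen r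
    obtain ⟨v, hv⟩ := hu.exists_right_inv
    have hv' := congrArg (fun q => valO q x hx) hv
    simp only [valO_mul, valO_one, valO_map, hr x hxU] at hv'
    obtain ⟨z, hz⟩ := HomogeneousLocalization.mk_surjective (v.1 ⟨x, hx⟩)
    rw [show valO v x hx = (v.1 ⟨x, hx⟩).val from rfl, ← hz, HomogeneousLocalization.val_mk,
      Localization.mk_mul, ← Localization.mk_one, Localization.mk_eq_mk_iff, Localization.r_iff_exists] at hv'
    obtain ⟨⟨w, hw⟩, he⟩ := hv'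
    replace he : w * (1 * (b * (z.num : A))) = w * (f ^ j * (z.den : A) * 1) := he
    have hden : (z.den : A) ∉ x.asHomogeneousIdeal := z.den_mem
    have : w * (f ^ j * (z.den : A) * 1) ∈ x.asHomogeneousIdeal.toIdeal :=
      he ▸ Ideal.mul_mem_left _ _ (Ideal.mul_mem_left _ _ (Ideal.mul_mem_right _ _ hbx))
    rcases x.isPrime.mem_or_mem this with h | h
    · exact hw h
    · rcases x.isPrime.mem_or_mem h with h | h
      · exact (x.isPrime.mem_or_mem h).elim (pow_notMem 𝒜 hxU j) hden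
      · exact one_notMem_prime 𝒜 x h
  · have hleU : Proj.basicOpen 𝒜 (f * b) ≤ Proj.basicOpen 𝒜 f := Proj.basicOpen_mono 𝒜 _ _ (dvd_mul_right f b)
    have hleb : Proj.basicOpen 𝒜 (f * b) ≤ Proj.basicOpen 𝒜 b := Proj.basicOpen_mono 𝒜 _ _ (dvd_mul_left b f)
    obtain ⟨v, hv⟩ := exists_valO_eq (frac 𝒜 (Proj.basicOpen 𝒜 (f * b)) (SetLike.pow_mem_graded j hf) hb
      (n := 0) (by simp) hleb)
    have h1 : (Proj 𝒜).presheaf.map (homOfLE hleU).op r * v = 1 := sectionO_ext fun y hy => by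
      rw [valO_mul, valO_one, hv, val_frac, valO_map, hr y (hleU hy)]
      exact mk_mul_mk_eq_one 𝒜 (hleb hy) (pow_notMem 𝒜 (hleU hy) j)
    rw [Scheme.mem_basicOpen _ r x (hleU hx), ← TopCat.Presheaf.germ_res_apply (Proj 𝒜).presheaf (homOfLE hleU) x hx]
    exact (IsUnit.of_mul_eq_one _ h1).map _

/-- `O(n)` is quasi-coherent. -/
theorem isQCoh_twist' (n : ℤ) : Coh.IsQCoh (_root_.Twist.twist 𝒜 n) := by
  let ι := {g : A // ∃ d : ℕ, 0 < d ∧ g ∈ 𝒜 d}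
  have haff : ∀ g : ι, IsAffineOpen (Proj.basicOpen 𝒜 g.1) := fun ⟨g, d, hd, hg⟩ =>
    Proj.isAffineOpen_basicOpen 𝒜 g hg hd
  refine Groth.Agent.M1.isQCoh_of_openImmersion_cover (fun g : ι => (haff g).fromSpec) (fun x => ?_) fun ⟨f, d, hd, hf⟩ => ?_
  · have hx : x ∈ (⨆ g : ι, Proj.basicOpen 𝒜 g.1) := by rw [EGA2.iSup_basicOpen_pos 𝒜]; trivial
    obtain ⟨g, hg⟩ := Opens.mem_iSup.1 hx
    exact ⟨g, by rw [IsAffineOpen.range_fromSpec]; exact hg⟩
  have hrep : ∀ r : Γ(Proj 𝒜, Proj.basicOpen 𝒜 f), ∃ (j : ℕ) (b : A) (hb : b ∈ 𝒜 (j • d)),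
      r = Proj.awayToSection 𝒜 f (Away.mk 𝒜 hf j b hb) := fun r => by
    obtain ⟨z, rfl⟩ := ((ConcreteCategory.isIso_iff_bijective (Proj.basicOpenIsoAway 𝒜 f hf hd).hom).1
      inferInstance).2 r
    obtain ⟨j, b, hb, rfl⟩ := Away.mk_surjective 𝒜 hf z
    exact ⟨j, b, hb, by rw [Proj.basicOpenIsoAway_hom]⟩
  refine isQCoh_restrict_fromSpec_of_localize _ (haff ⟨f, d, hd, hf⟩) (fun r t ht => ?_) fun r s => ?_
  all_goals
    obtain ⟨j, b, hb, rfl⟩ := hrep r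
    have hU := basicOpen_awayToSection 𝒜 hd hf hb
    have hfb : f * b ∈ 𝒜 (d + j • d) := SetLike.mul_mem_graded hf hb
    have hdpos : 0 < d + j • d := by omega
    have hval : ∀ (N : ℕ) (x : ProjectiveSpectrum 𝒜) (hx : x ∈ Proj.basicOpen 𝒜 f),
        valO (Proj.awayToSection 𝒜 f (Away.mk 𝒜 hf j b hb) ^ N) x hx =
          Localization.mk (b ^ N) ⟨(f ^ j) ^ N, pow_notMem 𝒜 (pow_notMem 𝒜 hx j) N⟩ := fun N x hx => by
      rw [valO_pow, valO_awayToSection 𝒜 hf hb x hx (pow_notMem 𝒜 hx j), mk_pow]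
  · obtain ⟨i, k, a, ha, hi, hta⟩ := exists_eq_frac_of_pos 𝒜 hd hf (t : Sec (𝒜 := 𝒜) n _)
    obtain ⟨N, hN⟩ := exists_pow_mul_eq_zero_of_mk 𝒜 hdpos hfb ha fun x hx => by
      have hxf : x ∈ Proj.basicOpen 𝒜 f := fun h => hx (Ideal.mul_mem_right _ _ h)
      refine ⟨f ^ k, pow_notMem 𝒜 hxf k, ?_⟩
      rw [← hta x hxf]
      exact congrArg (fun q => val (n := n) q x (hU.ge hx)) ht
    refine ⟨N, sec_ext fun x hx => ?_⟩
    show val (n := n) _ x hx = 0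
    rw [val_smul, hval, hta x hx, Localization.mk_mul, ← Localization.mk_zero ⟨1, one_notMem_prime 𝒜 x⟩,
      Localization.mk_eq_mk_iff, Localization.r_iff_exists]
    refine ⟨⟨f ^ N, pow_notMem 𝒜 hx N⟩, ?_⟩
    show f ^ N * (1 * (b ^ N * a)) = f ^ N * ((f ^ j) ^ N * f ^ k * 0)
    rw [mul_zero, mul_zero, one_mul, ← mul_assoc, ← mul_pow, hN]
  · obtain ⟨i, k, a, ha, hi, hsa⟩ := exists_eq_frac_of_pos 𝒜 hdpos hfb
      (Groth.Agent.M1.mres (_root_.Twist.twist 𝒜 n) hU.ge s : Sec (𝒜 := 𝒜) n _)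
    let p := k * (j + 1)
    refine ⟨k, frac 𝒜 (Proj.basicOpen 𝒜 f) ha (pow_mem_smul 𝒜 hf p) (n := n) ?_
      (fun x hx => pow_notMem 𝒜 hx p), sec_ext fun x hx => ?_⟩
    · rw [hi]; simp only [p, smul_eq_mul]; push_cast; ring
    · have hxfb : x ∈ Proj.basicOpen 𝒜 (f * b) := hU.le hx
      have hxf : x ∈ Proj.basicOpen 𝒜 f := fun h => hxfb (Ideal.mul_mem_right _ _ h)
      have hsx : val (n := n) s x hx = Localization.mk a ⟨(f * b) ^ k, pow_notMem 𝒜 hxfb k⟩ := hsa x hxfb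
      refine Eq.trans ?_ (val_smul _ _ x hx).symm
      rw [valO_pow]
      show Localization.mk a (⟨f ^ p, _⟩ : x.asHomogeneousIdeal.toIdeal.primeCompl) = _
      rw [show valO (M1.ores _ _) x hx = valO (Proj.awayToSection 𝒜 f (Away.mk 𝒜 hf j b hb)) x hxf from rfl,
        ← valO_pow, hval, hsx, Localization.mk_mul, Localization.mk_eq_mk_iff, Localization.r_iff_exists]
      refine ⟨1, ?_⟩
      show 1 * ((f ^ j) ^ k * (f * b) ^ k * a) = 1 * (f ^ p * (b ^ k * a))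
      simp only [p]; ring

end Groth.Agent.Twist
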