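import Groth.Agent.Lib.Twist.Triv
import Mathlib.Algebra.Category.ModuleCat.Sheaf.PullbackFree

/-!
Pullbacks of invertible modules are invertible.
-/

set_option autoImplicit false

universe u

open CategoryTheory Limits AlgebraicGeometry Opposite TopologicalSpace

namespace Groth.Agent.Twist

open Groth.Agent.M1

variable {X Y : Scheme.{u}} (f : Y ⟶ X)

instance final_map : (Opens.map f.base).Final := by
  constructor
  intro V
  let top : StructuredArrow V (Opens.map f.base) := StructuredArrow.mk (Y := (⊤ : X.Opens)) (homOfLE fun _ _ => trivial)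
  have : Nonempty (StructuredArrow V (Opens.map f.base)) := ⟨top⟩
  exact zigzag_isConnected fun j k =>
    (Zigzag.of_hom (StructuredArrow.homMk (homOfLE le_top) (Subsingleton.elim _ _) : j ⟶ top)).trans
      (Zigzag.of_inv (StructuredArrow.homMk (homOfLE le_top) (Subsingleton.elim _ _) : k ⟶ top))

set_option backward.isDefEq.respectTransparency.types false in
/-- The pullback of the structure module is the structure module. -/
noncomputable def pullbackUnitIso :
    (Scheme.Modules.pullback f).obj (Coh.structureModule X) ≅ Coh.structureModule Y :=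
  @asIso _ _ _ _ (SheafOfModules.pullbackObjUnitToUnit f.toRingCatSheafHom)
    (SheafOfModules.instIsIsoPullbackObjUnitToUnitOfFinal (F := Opens.map f.base) f.toRingCatSheafHom)

/-- Pullback commutes with restriction. -/
noncomputable def pullbackRestrictIso (M : X.Modules) (D : X.Opens) :
    ((Scheme.Modules.pullback f).obj M).restrict (f ⁻¹ᵁ D).ι ≅
      (Scheme.Modules.pullback (f ∣_ D)).obj (M.restrict D.ι) :=
  (Scheme.Modules.restrictFunctorIsoPullback (f ⁻¹ᵁ D).ι).app _ ≪≫
    (Scheme.Modules.pullbackComp (f ⁻¹ᵁ D).ι f).app M ≪≫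
    (Scheme.Modules.pullbackCongr (morphismRestrict_ι f D).symm).app M ≪≫
    ((Scheme.Modules.pullbackComp (f ∣_ D) D.ι).app M).symm ≪≫
    (Scheme.Modules.pullback (f ∣_ D)).mapIso ((Scheme.Modules.restrictFunctorIsoPullback D.ι).app M).symm

theorem isInvertible_pullback {M : X.Modules} (h : PicF.IsInvertible M) :
    PicF.IsInvertible ((Scheme.Modules.pullback f).obj M) := fun y => by
  obtain ⟨D, hD, ⟨e⟩⟩ := h (f y)
  exact ⟨f ⁻¹ᵁ D, hD, ⟨pullbackRestrictIso f M D ≪≫
    (Scheme.Modules.pullback (f ∣_ D)).mapIso e ≪≫ pullbackUnitIso (f ∣_ D)⟩⟩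

theorem isInvertible_of_iso {M N : X.Modules} (e : M ≅ N) (h : PicF.IsInvertible M) :
    PicF.IsInvertible N := fun x => by
  obtain ⟨D, hD, ⟨e'⟩⟩ := h x
  exact ⟨D, hD, ⟨((Scheme.Modules.restrictFunctor D.ι).mapIso e).symm ≪≫ e'⟩⟩

theorem isQCoh_of_isInvertible {M : X.Modules} (h : PicF.IsInvertible M) : Coh.IsQCoh M :=
  isQCoh_of_local M h

end Groth.Agent.Twist
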