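import Groth.Agent.Lib.Twist.Invertible
import Groth.Agent.Lib.Twist.Pullback
import Groth.Agent.Lib.ProjSpace.Basic

/-!
`O(d)` on projective space is invertible.
-/

set_option autoImplicit false

open CategoryTheory CategoryTheory.Limits AlgebraicGeometry MvPolynomial

universe u

namespace Groth.Agent.Twist

variable (n : ℕ) (R : Type u) [CommRing R]

theorem iSup_basicOpen_one :
    (⨆ f : CohB1.polyGrading n R 1, Proj.basicOpen (CohB1.polyGrading n R) (f : MvPolynomial (Fin (n + 1)) R)) = ⊤ := by
  rw [eq_top_iff, ← ProjSpace.iSup_basicOpen n R]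
  exact iSup_le fun i => le_iSup_of_le ⟨X i, ProjSpace.X_mem' n R i⟩ le_rfl

theorem isInvertible_twistProjSpace (d : ℤ) : PicF.IsInvertible (_root_.Twist.twistProjSpace n R d) :=
  isInvertible_twist (CohB1.polyGrading n R) (iSup_basicOpen_one n R) d

theorem isQCoh_twistProjSpace (d : ℤ) : Coh.IsQCoh (_root_.Twist.twistProjSpace n R d) :=
  isQCoh_twist (CohB1.polyGrading n R) (iSup_basicOpen_one n R) d

theorem isInvertible_twistOver (S : Scheme.{u}) (d : ℤ) : PicF.IsInvertible (_root_.Twist.twistOver n S d) :=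
  isInvertible_pullback _ (isInvertible_twistProjSpace n _ d)

theorem isQCoh_twistOver (S : Scheme.{u}) (d : ℤ) : Coh.IsQCoh (_root_.Twist.twistOver n S d) :=
  isQCoh_of_isInvertible (isInvertible_twistOver n S d)

end Groth.Agent.Twist
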