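import Groth.Prelude.Def_CohB1
import Mathlib.CategoryTheory.Sites.LocallyBijective

/-!
A morphism from a presheaf of modules to a sheaf that is locally bijective induces an isomorphism
from the sheafification.
-/

set_option autoImplicit false

universe u

open CategoryTheory CategoryTheory.Limits AlgebraicGeometry Opposite TopologicalSpace MonoidalCategory

namespace Groth.Agent.Twist

variable {X : Scheme.{u}}

theorem isIso_sheafify_lift {P : X.PresheafOfModules} {M : X.Modules} (g : P ⟶ M.val)
    (hU : ∀ x : X, ∃ U : X.Opens, x ∈ U ∧ ∀ V : X.Opens, V ≤ U → Function.Bijective (g.app (op V))) :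
    Nonempty ((CohB1.sheafifyMod X).obj P ≅ M) := by
  let α : X.ringCatSheaf.obj ⟶ X.ringCatSheaf.obj := 𝟙 X.ringCatSheaf.obj
  let J := Opens.grothendieckTopology X
  let F := PresheafOfModules.toPresheaf X.ringCatSheaf.obj
  let adj := PresheafOfModules.sheafificationAdjunction.{u} α
  let h := (adj.homEquiv P M).symm g
  have hfac : toSheafify J P.presheaf ≫ ((SheafOfModules.toSheaf _).map h).hom = F.map g := by
    have e := (adj.homEquiv P M).apply_symm_apply g
    have e2 := congrArg F.map (((adj.homEquiv_unit P M h).symm.trans e) :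
      adj.unit.app P ≫ _ = g)
    rw [Functor.map_comp] at e2
    exact e2
  have hinj : Presheaf.IsLocallyInjective J (F.map g) := ⟨fun {V} a b hab => by
    intro x hx
    obtain ⟨W, hxW, hbij⟩ := hU x
    refine ⟨V.unop ⊓ W, homOfLE inf_le_left, ?_, ⟨hx, hxW⟩⟩
    apply (hbij _ inf_le_right).1
    have n1 := ConcreteCategory.congr_hom ((F.map g).naturality (homOfLE (inf_le_left : V.unop ⊓ W ≤ V.unop)).op) a
    have n2 := ConcreteCategory.congr_hom ((F.map g).naturality (homOfLE (inf_le_left : V.unop ⊓ W ≤ V.unop)).op) b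
    exact n1.trans ((congrArg _ hab).trans n2.symm)⟩
  have hsurj : Presheaf.IsLocallySurjective J (F.map g) := ⟨fun {V} t => by
    intro x hx
    obtain ⟨W, hxW, hbij⟩ := hU x
    refine ⟨V ⊓ W, homOfLE inf_le_left, ?_, ⟨hx, hxW⟩⟩
    exact (hbij _ inf_le_right).2 _⟩
  have hW : J.W (F.map g) := J.W_of_isLocallyBijective _
  rw [← hfac] at hW
  have hW' : J.W ((SheafOfModules.toSheaf _).map h).hom :=
    MorphismProperty.of_precomp J.W _ _ (J.W_toSheafify _) hW
  have h1 : IsIso ((SheafOfModules.toSheaf X.ringCatSheaf).map h) :=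
    (J.W_sheafToPresheaf_map_iff_isIso _).1 hW'
  have h2 : IsIso h := isIso_of_reflects_iso h (SheafOfModules.toSheaf X.ringCatSheaf)
  exact ⟨@asIso _ _ _ _ h h2⟩

/-- Tensor product of isomorphisms. -/
noncomputable def tensorModIso {M M' N N' : X.Modules} (e : M ≅ M') (f : N ≅ N') :
    CohB1.tensorMod M N ≅ CohB1.tensorMod M' N' :=
  (CohB1.sheafifyMod X).mapIso (MonoidalCategory.tensorIso
    (C := CohB1.PMod X) ((SheafOfModules.forget _).mapIso e) ((SheafOfModules.forget _).mapIso f))

end Groth.Agent.Twist
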