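import Groth.Agent.Lib.Twist.Invertible
import Groth.Agent.Lib.Twist.SheafifyIso

/-!
`O(m) ⊗ O(n) ≅ O(m + n)`.
-/

set_option autoImplicit false

open CategoryTheory CategoryTheory.Limits AlgebraicGeometry TopologicalSpace Opposite MonoidalCategory

universe u

namespace Groth.Agent.Twist

open _root_.Twist
open scoped TensorProduct

variable {R A : Type u} [CommRing R] [CommRing A] [Algebra R A] (𝒜 : ℕ → Submodule R A) [GradedAlgebra 𝒜]
  (m n : ℤ)

/-- The sections of `O(n)` as the tensor machinery sees them. -/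
noncomputable abbrev twistP : CohB1.PMod (Proj 𝒜) := CohB1.toPMod (_root_.Twist.twist 𝒜 n)

/-- Multiplication of sections over one open, as a bilinear map. -/
noncomputable def mulApp (U : (Proj 𝒜).Opensᵒᵖ) :
    (twistP 𝒜 m).obj U ⊗ (twistP 𝒜 n).obj U ⟶ (twistP 𝒜 (m + n)).obj U :=
  ModuleCat.MonoidalCategory.tensorLift
    (fun f g => (mulSec (m := m) (n := n) (U := U.unop) f g : Sec (𝒜 := 𝒜) (m + n) U.unop))
    (fun f f' g => sec_ext fun x hx => by
      show (val f x hx + val f' x hx) * val g x hx = val f x hx * val g x hx + val f' x hx * val g x hx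
      rw [add_mul])
    (fun a f g => sec_ext fun x hx => by
      refine (congrArg (· * val (n := n) (U := U.unop) g x hx) (val_smul a f x hx)).trans ?_
      refine Eq.trans ?_ (val_smul a (mulSec (m := m) (n := n) (U := U.unop) f g) x hx).symm
      exact mul_assoc _ _ _)
    (fun f g g' => sec_ext fun x hx => by
      show val f x hx * (val g x hx + val g' x hx) = val f x hx * val g x hx + val f x hx * val g' x hx
      rw [mul_add])
    (fun a f g => sec_ext fun x hx => by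
      refine (congrArg (val (n := m) (U := U.unop) f x hx * ·) (val_smul a g x hx)).trans ?_
      refine Eq.trans ?_ (val_smul a (mulSec (m := m) (n := n) (U := U.unop) f g) x hx).symm
      exact mul_left_comm _ _ _)

theorem mulApp_tmul (U : (Proj 𝒜).Opensᵒᵖ) (f : (twistP 𝒜 m).obj U) (g : (twistP 𝒜 n).obj U) :
    mulApp 𝒜 m n U (f ⊗ₜ g) = mulSec (m := m) (n := n) (U := U.unop) f g := rfl

/-- Multiplication of sections, as a morphism of presheaves of modules. -/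
noncomputable def mulHom : (twistP 𝒜 m ⊗ twistP 𝒜 n : CohB1.PMod (Proj 𝒜)) ⟶ twistP 𝒜 (m + n) where
  app U := mulApp 𝒜 m n U
  naturality {U V} i := ModuleCat.MonoidalCategory.tensor_ext fun f g => rfl

theorem bijective_mulApp {U : (Proj 𝒜).Opens} (e : Sec (𝒜 := 𝒜) m U) (em : Sec (𝒜 := 𝒜) (-m) U)
    (f : Sec (𝒜 := 𝒜) n U) (fm : Sec (𝒜 := 𝒜) (-n) U)
    (he : ∀ x hx, val e x hx * val em x hx = 1) (hf : ∀ x hx, val f x hx * val fm x hx = 1)
    (V : (Proj 𝒜).Opens) (hV : V ≤ U) : Function.Bijective (mulApp 𝒜 m n (op V)) := by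
  let eV : (twistP 𝒜 m).obj (op V) := resN m (homOfLE hV).op e
  let fV : (twistP 𝒜 n).obj (op V) := resN n (homOfLE hV).op f
  have bm := bijective_smul_of_inverse e em he V hV
  have bn := bijective_smul_of_inverse f fm hf V hV
  let ef : Sec (𝒜 := 𝒜) (m + n) U := mulSec e f
  let efm : Sec (𝒜 := 𝒜) (-(m + n)) U := castSec (by ring) (mulSec em fm)
  have bmn := bijective_smul_of_inverse ef efm (fun x hx => by
    rw [val_castSec, val_mulSec, val_mulSec, mul_mul_mul_comm, he, hf, one_mul]) V hV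
  let Rv := ↑(((Proj 𝒜).sheaf.obj ⋙ forget₂ CommRingCat RingCat.{u}).obj (op V))
  let ev := eV ⊗ₜ[Rv] fV
  have hspan : ∀ t : (twistP 𝒜 m).obj (op V) ⊗[Rv] (twistP 𝒜 n).obj (op V), ∃ r : Rv, t = r • ev := fun t => by
    induction t using TensorProduct.induction_on with
    | zero => exact ⟨0, (zero_smul _ _).symm⟩
    | add a b ha hb =>
      obtain ⟨r, rfl⟩ := ha
      obtain ⟨s, rfl⟩ := hb
      exact ⟨r + s, (add_smul _ _ _).symm⟩
    | tmul a b =>
      obtain ⟨r, rfl⟩ := bm.2 a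
      obtain ⟨s, rfl⟩ := bn.2 b
      refine ⟨(show Rv from r) * (show Rv from s), ?_⟩
      show ((show Rv from r) • eV) ⊗ₜ[Rv] ((show Rv from s) • fV) = _
      rw [TensorProduct.tmul_smul, TensorProduct.smul_tmul', smul_smul, mul_comm]
      rfl
  have hmul : ∀ r : Rv, mulApp 𝒜 m n (op V) (r • ev) =
      (show Γ(Proj 𝒜, V) from r) • Groth.Agent.M1.mres (_root_.Twist.twist 𝒜 (m + n)) hV ef := fun r => by
    refine ((mulApp 𝒜 m n (op V)).hom.map_smul r ev).trans ?_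
    rfl
  constructor
  · intro s t hst
    obtain ⟨r, rfl⟩ := hspan s
    obtain ⟨r', rfl⟩ := hspan t
    rw [hmul, hmul] at hst
    rw [bmn.1 hst]
  · intro y
    obtain ⟨r, hr⟩ := bmn.2 y
    exact ⟨(show Rv from r) • ev, (hmul r).trans hr⟩

theorem nonempty_tensor_iso (hcov : (⨆ f : 𝒜 1, Proj.basicOpen 𝒜 (f : A)) = ⊤) :
    Nonempty (CohB1.tensorMod (_root_.Twist.twist 𝒜 m) (_root_.Twist.twist 𝒜 n) ≅ _root_.Twist.twist 𝒜 (m + n)) := by
  refine isIso_sheafify_lift (mulHom 𝒜 m n) fun x => ?_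
  have hx : x ∈ (⨆ f : 𝒜 1, Proj.basicOpen 𝒜 (f : A)) := by rw [hcov]; trivial
  obtain ⟨⟨g, hg⟩, hgx⟩ := Opens.mem_iSup.1 hx
  have hpow : ∀ p : ℕ, g ^ p ∈ 𝒜 p := fun p => by simpa using SetLike.pow_mem_graded p hg
  have hne : ∀ p : ℕ, Proj.basicOpen 𝒜 g ≤ Proj.basicOpen 𝒜 (g ^ p) := fun p x hx h =>
    hx (x.isPrime.mem_of_pow_mem p h)
  have hinv : ∀ k : ℤ, ∃ (e : Sec (𝒜 := 𝒜) k (Proj.basicOpen 𝒜 g)) (e' : Sec (𝒜 := 𝒜) (-k) (Proj.basicOpen 𝒜 g)),
      ∀ x hx, val e x hx * val e' x hx = 1 := fun k => by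
    obtain ⟨p, q, hpq⟩ : ∃ p q : ℕ, k = (p : ℤ) - q := ⟨k.toNat, (-k).toNat, by omega⟩
    exact ⟨frac 𝒜 _ (hpow p) (hpow q) (by omega) (hne q), frac 𝒜 _ (hpow q) (hpow p) (by omega) (hne p),
      fun x hx => mk_mul_mk_eq_one 𝒜 (hne p hx) (hne q hx)⟩
  obtain ⟨e, em, he⟩ := hinv m
  obtain ⟨f, fm, hf⟩ := hinv n
  exact ⟨_, hgx, fun V hV => bijective_mulApp 𝒜 m n e em f fm he hf V hV⟩

theorem nonempty_twist_zero_iso : Nonempty (_root_.Twist.twist 𝒜 0 ≅ Coh.structureModule (Proj 𝒜)) := by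
  let e : Sec (𝒜 := 𝒜) 0 (⊤ : (Proj 𝒜).Opens) :=
    frac 𝒜 ⊤ (SetLike.one_mem_graded 𝒜) (SetLike.one_mem_graded 𝒜) rfl
      (fun x _ h => x.isPrime.ne_top ((Ideal.eq_top_iff_one _).mpr h))
  refine nonempty_iso_of_generator (M := _root_.Twist.twist 𝒜 0) e fun U =>
    bijective_smul_of_inverse e (castSec neg_zero.symm e) (fun x hx => ?_) U le_top
  rw [val_castSec]
  exact mk_mul_mk_eq_one 𝒜 _ _

theorem nonempty_iso_tensorPow (hcov : (⨆ f : 𝒜 1, Proj.basicOpen 𝒜 (f : A)) = ⊤) (k : ℕ) :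
    Nonempty (_root_.Twist.twist 𝒜 (k : ℤ) ≅ CohB1.tensorPow (_root_.Twist.twist 𝒜 1) k) := by
  induction k with
  | zero => exact nonempty_twist_zero_iso 𝒜
  | succ k ih =>
    obtain ⟨e⟩ := ih
    obtain ⟨t⟩ := nonempty_tensor_iso 𝒜 (k : ℤ) 1 hcov
    have h : ((k + 1 : ℕ) : ℤ) = (k : ℤ) + 1 := by push_cast; rfl
    rw [h]
    exact ⟨t.symm ≪≫ tensorModIso e (Iso.refl _)⟩

end Groth.Agent.Twist
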