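import Groth.Agent.Lib.Twist.Global
import Groth.Agent.Lib.ProjSpace.Basic
import Mathlib.RingTheory.MvPolynomial.Ideal

/-!
Global sections of `O(d)` on projective space.
-/

set_option autoImplicit false

open CategoryTheory AlgebraicGeometry HomogeneousLocalization MvPolynomial Opposite

universe u

namespace Groth.Agent.Twist

open _root_.Twist

section ToSpecZero

variable {R A : Type u} [CommRing R] [CommRing A] [Algebra R A] (𝒜 : ℕ → Submodule R A) [GradedAlgebra 𝒜]

theorem basicOpen_one_ι_toSpecZero : (Proj.basicOpen 𝒜 1).ι ≫ Proj.toSpecZero 𝒜 =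
    Proj.basicOpenToSpec 𝒜 1 ≫ Spec.map (CommRingCat.ofHom (fromZeroRingHom 𝒜 _)) := by
  have h1 : (Proj.basicOpen 𝒜 1).ι ≫ (Scheme.topIso (Proj 𝒜)).inv ≫
      (Scheme.isoOfEq _ (Proj.basicOpen_one 𝒜)).inv = 𝟙 _ := by
    rw [← cancel_mono (Proj.basicOpen 𝒜 1).ι]
    simp
  rw [Proj.toSpecZero]
  simpa only [Category.assoc, Category.id_comp] using
    congrArg (· ≫ Proj.basicOpenToSpec 𝒜 1 ≫ Spec.map (CommRingCat.ofHom (fromZeroRingHom 𝒜 _))) h1
theorem valO_toSpecZero (c : 𝒜 0) (x : ProjectiveSpectrum 𝒜) (h1 : (1 : A) ∉ x.asHomogeneousIdeal) :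
    valO ((Proj.toSpecZero 𝒜).appTop ((Scheme.ΓSpecIso _).inv c)) x trivial =
      Localization.mk c.1 ⟨1, h1⟩ := by
  have h := congrArg Scheme.Hom.appTop (basicOpen_one_ι_toSpecZero 𝒜)
  simp [Scheme.Hom.comp_appTop, Proj.basicOpenToSpec_app_top, Scheme.ΓSpecIso_naturality_assoc] at h
  have h' := ConcreteCategory.congr_hom h ((Scheme.ΓSpecIso _).inv c)
  simp only [ConcreteCategory.comp_apply, Iso.inv_hom_id_apply] at h'
  have hx : x ∈ (Proj.basicOpen 𝒜 1).ι ''ᵁ ⊤ := by
    rw [Scheme.Opens.ι_image_top, Proj.basicOpen_one]; trivial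
  exact congrArg (fun r => valO r x hx) h'

end ToSpecZero

variable (n : ℕ) (R : Type u) [CommRing R]

theorem X_pow_eq (i : Fin (n + 1)) (k : ℕ) :
    (X i : MvPolynomial (Fin (n + 1)) R) ^ k = monomial (Finsupp.single i k) 1 := X_pow_eq_monomial

theorem X_mem_nonZeroDivisors (i : Fin (n + 1)) : (X i : MvPolynomial (Fin (n + 1)) R) ∈ nonZeroDivisors _ := by
  refine mem_nonZeroDivisors_iff_right.2 fun p hp => ext _ _ fun d => ?_
  have := congrArg (coeff (d + Finsupp.single i 1)) hp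
  rw [X, coeff_mul_monomial, mul_one, coeff_zero] at this
  rw [this, coeff_zero]

theorem X_pow_dvd_of_dvd_mul {i j : Fin (n + 1)} (h : i ≠ j) (k l : ℕ) (a : MvPolynomial (Fin (n + 1)) R)
    (hd : X i ^ k ∣ X j ^ l * a) : X i ^ k ∣ a := by
  rw [X_pow_eq, monomial_one_dvd_iff_modMonomial_eq_zero] at hd ⊢
  refine ext _ _ fun d => ?_
  rw [coeff_zero]
  by_cases hk : Finsupp.single i k ≤ d
  · exact coeff_modMonomial_of_le _ hk
  · rw [coeff_modMonomial_of_not_le _ hk]
    have := congrArg (coeff (Finsupp.single j l + d)) hd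
    rw [coeff_zero, coeff_modMonomial_of_not_le, X_pow_eq, coeff_monomial_mul, one_mul] at this
    · exact this
    · intro hle
      refine hk (Finsupp.single_le_iff.2 ?_)
      have := Finsupp.single_le_iff.1 hle
      simpa [Finsupp.single_eq_of_ne h] using this

theorem X_pow_dvd_of_le_degree {i : Fin (0 + 1)} {k e : ℕ} {a : MvPolynomial (Fin (0 + 1)) R}
    (ha : a ∈ CohB1.polyGrading 0 R e) (hle : k ≤ e) : X i ^ k ∣ a := by
  rw [X_pow_eq, monomial_one_dvd_iff_modMonomial_eq_zero]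
  refine ext _ _ fun d => ?_
  rw [coeff_zero]
  by_cases hk : Finsupp.single i k ≤ d
  · exact coeff_modMonomial_of_le _ hk
  · rw [coeff_modMonomial_of_not_le _ hk]
    refine IsHomogeneous.coeff_eq_zero ha fun hdeg => hk (Finsupp.single_le_iff.2 ?_)
    rw [Finsupp.degree_eq_sum, Fin.sum_univ_one] at hdeg
    obtain rfl : i = 0 := Subsingleton.elim (α := Fin 1) _ _
    exact hdeg ▸ hle

theorem hdiv_nat (d : ℕ) (k l e : ℕ) (a : MvPolynomial (Fin (n + 1)) R) (ha : a ∈ CohB1.polyGrading n R e)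
    (he : (e : ℤ) = k + (d : ℤ))
    (hd : X (0 : Fin (n + 1)) ^ k ∣ X (Fin.last n) ^ l * a) : X (0 : Fin (n + 1)) ^ k ∣ a := by
  rcases Nat.eq_zero_or_pos n with rfl | hn
  · exact X_pow_dvd_of_le_degree R ha (by omega)
  · exact X_pow_dvd_of_dvd_mul n R (by simp [Fin.ext_iff]; omega) k l a hd

/-- `R[T]_d → Γ(P^n_R, O(d))` is bijective. -/
theorem globalOf_bijective_polyGrading (d : ℕ) :
    Function.Bijective fun a : CohB1.polyGrading n R d => globalOf (CohB1.polyGrading n R) a :=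
  globalOf_bijective (CohB1.polyGrading n R) (fun i => X i) (fun i => ProjSpace.X_mem' n R i)
    (X_mem_nonZeroDivisors n R)
    (fun x => by
      have : x ∈ (⨆ i : Fin (n + 1), Proj.basicOpen (CohB1.polyGrading n R) (X i)) := by
        rw [ProjSpace.iSup_basicOpen]; trivial
      obtain ⟨i, hi⟩ := TopologicalSpace.Opens.mem_iSup.1 this
      exact ⟨i, hi⟩) d (i₀ := 0) (i₁ := Fin.last n) (hdiv_nat n R d)

/-- `Γ(P^n_R, O(d)) = 0` for `d < 0`, `n ≥ 1`. -/
theorem subsingleton_sections_twistProjSpace_neg (hn : 0 < n) {d : ℤ} (hd : d < 0) :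
    Subsingleton (Sec (𝒜 := CohB1.polyGrading n R) d ⊤) :=
  subsingleton_sections_neg (CohB1.polyGrading n R) (fun i => X i) (fun i => ProjSpace.X_mem' n R i)
    (X_mem_nonZeroDivisors n R)
    (fun x => by
      have : x ∈ (⨆ i : Fin (n + 1), Proj.basicOpen (CohB1.polyGrading n R) (X i)) := by
        rw [ProjSpace.iSup_basicOpen]; trivial
      obtain ⟨i, hi⟩ := TopologicalSpace.Opens.mem_iSup.1 this
      exact ⟨i, hi⟩) hd (i₀ := 0) (i₁ := Fin.last n)
    fun k l _ a _ _ => X_pow_dvd_of_dvd_mul n R (by simp [Fin.ext_iff]; omega) k l a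

theorem one_notMem (x : ProjectiveSpectrum (CohB1.polyGrading n R)) :
    (1 : MvPolynomial (Fin (n + 1)) R) ∉ x.asHomogeneousIdeal :=
  fun h => x.isPrime.ne_top ((Ideal.eq_top_iff_one _).mpr h)

/-- The structure map on global functions, seen on `Proj`. -/
noncomputable def constFun (c : R) : Γ(Proj (CohB1.polyGrading n R), ⊤) :=
  (CohB1.ProjSpace.toSpec n R).appTop ((Scheme.ΓSpecIso (CommRingCat.of R)).inv c)

theorem valO_constFun (c : R) (x : ProjectiveSpectrum (CohB1.polyGrading n R)) :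
    valO (constFun n R c) x trivial = Localization.mk (C c) ⟨1, one_notMem n R x⟩ := by
  have hn := ConcreteCategory.congr_hom
    (Scheme.ΓSpecIso_inv_naturality (CommRingCat.ofHom (algebraMap R (CohB1.polyGrading n R 0)))) c
  refine (congrArg (fun r => valO ((Proj.toSpecZero (CohB1.polyGrading n R)).appTop r) x trivial) hn.symm).trans ?_
  exact valO_toSpecZero (CohB1.polyGrading n R) (algebraMap R (CohB1.polyGrading n R 0) c) x (one_notMem n R x)

/-- `Γ(P^n_R, O) = R`. -/
theorem bijective_toSpec_appTop :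
    Function.Bijective fun c : R => (CohB1.ProjSpace.toSpec n R).appTop ((Scheme.ΓSpecIso (CommRingCat.of R)).inv c) := by
  show Function.Bijective (constFun n R)
  constructor
  · intro c c' h
    have he : (⟨C c, isHomogeneous_C _ c⟩ : CohB1.polyGrading n R 0) = ⟨C c', isHomogeneous_C _ c'⟩ := by
      refine (globalOf_bijective_polyGrading n R 0).1 (sec_ext fun x hx => ?_)
      have e := congrArg (fun r : Γ(Proj (CohB1.polyGrading n R), ⊤) => valO r x trivial) h
      simp only [valO_constFun] at e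
      exact e
    exact C_injective _ R (congrArg Subtype.val he)
  · intro r
    let one : Sec (𝒜 := CohB1.polyGrading n R) ((0 : ℕ) : ℤ) ⊤ :=
      globalOf (CohB1.polyGrading n R) (i := 0) ⟨1, SetLike.GradedOne.one_mem⟩
    let oneS : Γ(_root_.Twist.twist (CohB1.polyGrading n R) ((0 : ℕ) : ℤ), (⊤ : (Proj (CohB1.polyGrading n R)).Opens)) := one
    let rr : Γ(Proj (CohB1.polyGrading n R), ⊤) := r
    let rs : Γ(_root_.Twist.twist (CohB1.polyGrading n R) ((0 : ℕ) : ℤ), (⊤ : (Proj (CohB1.polyGrading n R)).Opens)) :=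
      rr • oneS
    obtain ⟨q, hs⟩ := (globalOf_bijective_polyGrading n R 0).2 rs
    obtain ⟨c, hc⟩ := (ProjSpace.algebraMap_degZero_bijective n R).2 q
    refine ⟨c, sectionO_ext fun x hx => ?_⟩
    refine (valO_constFun n R c x).trans ?_
    have hv : val (n := ((0 : ℕ) : ℤ)) (globalOf (CohB1.polyGrading n R) q) x trivial =
        val (n := ((0 : ℕ) : ℤ)) rs x trivial :=
      congrArg (fun s => val (n := ((0 : ℕ) : ℤ)) (U := ⊤) s x trivial) hs
    have e1 : val (n := ((0 : ℕ) : ℤ)) rs x trivial = valO r x hx * val one x trivial := val_smul rr oneS x hx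
    have e2 : val one x trivial = 1 := Localization.mk_one
    have e3 : val (n := ((0 : ℕ) : ℤ)) (globalOf (CohB1.polyGrading n R) q) x trivial =
        Localization.mk q.1 ⟨1, one_notMem n R x⟩ := rfl
    rw [e1, e2, mul_one, e3] at hv
    rw [← hv, ← hc]
    rfl

end Groth.Agent.Twist
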