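import Groth.Agent.Lib.ModM1.Local
import Groth.Prelude.Def_Pic

/-!
A section generating a module on an open gives a trivialisation there.
-/

set_option autoImplicit false

universe u

open CategoryTheory Limits AlgebraicGeometry Opposite TopologicalSpace

namespace Groth.Agent.Twist

open Groth.Agent.M1

variable {X : Scheme.{u}}

theorem secHom_app {M : X.Modules} (s : Γ(M, ⊤)) (U : X.Opens) (r : Γ(X, U)) :
    (secHom s).app U r = r • mres M (le_top : U ≤ ⊤) s := by
  have h : (r : Γ(Coh.structureModule X, U)) = r • one U := (mul_one r).symm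
  conv_lhs => rw [h]
  rw [Scheme.Modules.Hom.app_smul, ← mres_one (le_top : U ≤ ⊤), app_mres, secHom_app_one]

theorem isIso_of_bijective_app {M N : X.Modules} (φ : M ⟶ N)
    (h : ∀ U : X.Opens, Function.Bijective (φ.app U)) : IsIso φ :=
  Scheme.Modules.Hom.isIso_iff_isIso_app.2 fun U => (ConcreteCategory.isIso_iff_bijective _).2 (h U)

/-- A global generator trivialises a module. -/
theorem nonempty_iso_of_generator (M : X.Modules) (s : Γ(M, ⊤))
    (h : ∀ U : X.Opens, Function.Bijective fun r : Γ(X, U) => r • mres M (le_top : U ≤ ⊤) s) :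
    Nonempty (M ≅ Coh.structureModule X) := by
  have : IsIso (secHom s) := isIso_of_bijective_app _ fun U => by
    have e : (fun r : Γ(X, U) => (secHom s).app U r) = fun r : Γ(X, U) => r • mres M (le_top : U ≤ ⊤) s :=
      funext (secHom_app s U)
    exact (congrArg Function.Bijective e).mpr (h U)
  exact ⟨(asIso (secHom s)).symm⟩

/-- A generator on an open trivialises the restriction. -/
theorem nonempty_restrict_iso (M : X.Modules) (U : X.Opens) (s : Γ(M, U))
    (h : ∀ (V : X.Opens) (hV : V ≤ U), Function.Bijective fun r : Γ(X, V) => r • mres M hV s) :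
    Nonempty (M.restrict U.ι ≅ Coh.structureModule (U : Scheme.{u})) := by
  have hle : ∀ W : (U : Scheme.{u}).Opens, U.ι ''ᵁ W ≤ U := fun W => by
    rintro x ⟨y, -, rfl⟩
    exact y.2
  refine nonempty_iso_of_generator (M.restrict U.ι) (mres M (hle ⊤) s) fun W => ?_
  have key : ∀ r : Γ((U : Scheme.{u}), W), r • mres (M.restrict U.ι) (le_top : W ≤ ⊤) (mres M (hle ⊤) s) =
      ((U.ι.appIso W).inv r : Γ(X, U.ι ''ᵁ W)) • mres M (hle W) s := fun r => by
    show ((U.ι.appIso W).inv r : Γ(X, U.ι ''ᵁ W)) •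
      mres M (Scheme.Hom.image_mono _ (le_top : W ≤ ⊤)) (mres M (hle ⊤) s) = _
    rw [mres_mres]
  simp only [key]
  exact (h _ (hle W)).comp ((ConcreteCategory.isIso_iff_bijective _).1 inferInstance)

/-- Local triviality near the image of an open immersion gives invertibility of the restriction. -/
theorem isInvertible_restrict (M : X.Modules) {Y : Scheme.{u}} (j : Y ⟶ X) [IsOpenImmersion j]
    (h : ∀ y : Y, ∃ D : X.Opens, j y ∈ D ∧ Nonempty (M.restrict D.ι ≅ Coh.structureModule (D : Scheme.{u}))) :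
    PicF.IsInvertible (M.restrict j) := by
  intro y
  obtain ⟨D, hD, ⟨e⟩⟩ := h y
  have hr : Set.range ((j ⁻¹ᵁ D).ι ≫ j) ⊆ Set.range D.ι := by
    rintro _ ⟨z, rfl⟩
    rw [Scheme.Opens.range_ι]
    exact z.2
  exact ⟨j ⁻¹ᵁ D, hD, ⟨restrictRestrictIso M j _ _ rfl ≪≫ (restrictLiftIso M D.ι _ hr).symm ≪≫
    (Scheme.Modules.restrictFunctor (IsOpenImmersion.lift D.ι _ hr)).mapIso e ≪≫
    Scheme.Modules.restrictUnitIso _⟩⟩

theorem isInvertible_of_local (M : X.Modules)
    (h : ∀ x : X, ∃ D : X.Opens, x ∈ D ∧ Nonempty (M.restrict D.ι ≅ Coh.structureModule (D : Scheme.{u}))) :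
    PicF.IsInvertible M := h

theorem isQCoh_of_local (M : X.Modules)
    (h : ∀ x : X, ∃ D : X.Opens, x ∈ D ∧ Nonempty (M.restrict D.ι ≅ Coh.structureModule (D : Scheme.{u}))) :
    Coh.IsQCoh M := by
  choose D hD e using h
  refine isQCoh_of_openImmersion_cover (fun x => (D x).ι) (fun x => ⟨x, by rw [Scheme.Opens.range_ι]; exact hD x⟩)
    fun x => isQCoh_of_isIso (e x).some.symm ?_
  exact isQCoh_structureModule _

end Groth.Agent.Twist
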