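import Groth.Agent.Lib.Twist.Universal
import Mathlib.LinearAlgebra.SymmetricAlgebra.Basic

/-!
Existence in the universal property of `Proj` of an algebra generated in degree one.
-/

set_option autoImplicit false

universe u

open CategoryTheory Limits AlgebraicGeometry Opposite TopologicalSpace

namespace Groth.Agent.ProjUP

open Groth.Agent.M1 Groth.Agent.Twist

variable {X : Scheme.{u}}

theorem map_topIso_inv (U : X.Opens) : X.presheaf.map (homOfLE (le_top : U ≤ ⊤)).op ≫ U.topIso.inv = U.ι.appTop := by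
  simp only [Scheme.Opens.topIso, Scheme.Hom.appTop, Scheme.Opens.ι_app]
  exact (X.presheaf.map_comp _ _).symm
theorem topIso_inv_appLE_homOfLE (U W : X.Opens) (h : W ≤ U) (e : (⊤ : (W : Scheme.{u}).Opens) ≤ X.homOfLE h ⁻¹ᵁ ⊤) :
    U.topIso.inv ≫ (X.homOfLE h).appLE ⊤ ⊤ e = X.presheaf.map (homOfLE h).op ≫ W.topIso.inv := by
  simp only [Scheme.Opens.topIso, Scheme.homOfLE_appLE]
  refine (X.presheaf.map_comp _ _).symm.trans ((congrArg _ ?_).trans (X.presheaf.map_comp _ _))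
  exact Subsingleton.elim _ _
theorem ι_appLE_top (U : X.Opens) (e : (⊤ : (U : Scheme.{u}).Opens) ≤ U.ι ⁻¹ᵁ U) : U.ι.appLE U ⊤ e = U.topIso.inv := by
  simp only [Scheme.Opens.topIso, Scheme.Opens.ι_appLE]
  rfl

theorem exists_isGen_of_invertible {L : X.Modules} (hL : PicF.IsInvertible L) (x : X) :
    ∃ (D : X.Opens) (g : Γ(L, D)), x ∈ D ∧ IsGen L D g := by
  obtain ⟨D, hxD, ⟨ι⟩⟩ := hL x
  have himg : D.ι ''ᵁ ⊤ = D := by simp
  let g' : Γ(L.restrict D.ι, ⊤) := ι.inv.app ⊤ (one ⊤)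
  refine ⟨D, mres L himg.ge g', hxD, fun V hV => ?_⟩
  obtain ⟨W, rfl⟩ : ∃ W : (D : Scheme.{u}).Opens, D.ι ''ᵁ W = V :=
    ⟨D.ι ⁻¹ᵁ V, by rw [Scheme.Hom.image_preimage_eq_opensRange_inf, Scheme.Opens.opensRange_ι, inf_eq_right.2 hV]⟩
  have hb : Function.Bijective (ι.inv.app W) := (ConcreteCategory.isIso_iff_bijective _).1 inferInstance
  have key : ∀ r : Γ(X, D.ι ''ᵁ W), r • mres L hV (mres L himg.ge g') =
      ι.inv.app W ((D.ι.appIso W).hom r : Γ(Coh.structureModule (D : Scheme.{u}), W)) := fun r => by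
    rw [show mres L hV (mres L himg.ge g') = mres L (D.ι.image_mono (le_top : W ≤ ⊤)) g' from mres_mres L himg.ge hV _,
      show ((D.ι.appIso W).hom r : Γ(Coh.structureModule (D : Scheme.{u}), W)) = (D.ι.appIso W).hom r • one W from
      (mul_one _).symm, Scheme.Modules.Hom.app_smul, ← mres_one (le_top : W ≤ ⊤), app_mres]
    show _ = ((D.ι.appIso W).inv ((D.ι.appIso W).hom r) : Γ(X, D.ι ''ᵁ W)) • mres L (Scheme.Hom.image_mono _ le_top) g'
    rw [Iso.hom_inv_id_apply]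
  simp only [key]
  exact hb.comp ((ConcreteCategory.isIso_iff_bijective (D.ι.appIso W).hom).1 inferInstance)

/-- Generating sections generate locally. -/
theorem exists_isGen_of_generatedBy {L : X.Modules} (hL : PicF.IsInvertible L) {M : Type*}
    (v : M → Γ(L, ⊤)) (hgen : _root_.ProjUP.GeneratedBy L v) (x : X) :
    ∃ (m : M) (U : X.Opens), x ∈ U ∧ IsGen L U (mres L (le_top : U ≤ ⊤) (v m)) := by
  obtain ⟨D, g, hxD, hg⟩ := exists_isGen_of_invertible hL x
  choose c hc using fun m => (hg D le_rfl).2 (mres L (le_top : D ≤ ⊤) (v m))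
  simp only [mres_id] at hc
  have hgerm : ∀ m, L.presheaf.germ ⊤ x trivial (v m) =
      X.presheaf.germ D x hxD (c m) • (L.presheaf.germ D x hxD g : L.presheaf.stalk x) := fun m => by
    rw [← germ_mres L (le_top : D ≤ ⊤) hxD, ← hc, germ_smul]
  obtain ⟨m, hm⟩ : ∃ m, IsUnit (X.presheaf.germ D x hxD (c m)) := by
    by_contra hno
    have hmax : ∀ m, X.presheaf.germ D x hxD (c m) ∈ IsLocalRing.maximalIdeal (X.presheaf.stalk x) :=
      fun m hu => hno ⟨m, hu⟩
    have hg1 : (L.presheaf.germ D x hxD g : L.presheaf.stalk x) ∈ Submodule.span (X.presheaf.stalk x)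
        (Set.range fun m => (L.presheaf.germ ⊤ x trivial).hom (v m)) := by
      rw [hgen x]; trivial
    have : ∃ d ∈ IsLocalRing.maximalIdeal (X.presheaf.stalk x),
        d • (L.presheaf.germ D x hxD g : L.presheaf.stalk x) = L.presheaf.germ D x hxD g := by
      refine Submodule.span_induction (p := fun z _ => ∃ d ∈ IsLocalRing.maximalIdeal (X.presheaf.stalk x),
        d • (L.presheaf.germ D x hxD g : L.presheaf.stalk x) = z) ?_ ?_ ?_ ?_ hg1
      · rintro _ ⟨m, rfl⟩; exact ⟨_, hmax m, (hgerm m).symm⟩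
      · exact ⟨0, zero_mem _, zero_smul _ _⟩
      · rintro a b _ _ ⟨d, hd, rfl⟩ ⟨d', hd', rfl⟩; exact ⟨d + d', add_mem hd hd', add_smul _ _ _⟩
      · rintro r a _ ⟨d, hd, rfl⟩; exact ⟨r * d, Ideal.mul_mem_left _ r hd, mul_smul _ _ _⟩
    obtain ⟨d, hd, hdg⟩ := this
    have : d = 1 := (hg.stalk hxD).1 (hdg.trans (one_smul _ _).symm)
    exact (IsLocalRing.maximalIdeal.isMaximal _).ne_top ((Ideal.eq_top_iff_one _).2 (this ▸ hd))
  refine ⟨m, X.basicOpen (c m), (X.mem_basicOpen (c m) x hxD).2 hm, fun V hV => ?_⟩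
  have hVD : V ≤ D := hV.trans (X.basicOpen_le _)
  have hu : IsUnit (ores hVD (c m)) := by
    have h1 : IsUnit (ores (X.basicOpen_le (c m)) (c m)) := X.toRingedSpace.isUnit_res_basicOpen (c m)
    rw [← ores_ores (X.basicOpen_le (c m)) hV]
    exact h1.map _
  have key : ∀ r : Γ(X, V), r • mres L hV (mres L le_top (v m)) = (r * ores hVD (c m)) • mres L hVD g := fun r => by
    rw [mres_mres, ← mres_mres L (le_top : D ≤ ⊤) hVD, ← hc, mres_smul, mul_smul]
  simp only [key]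
  exact (hg V hVD).comp (IsUnit.isUnit_iff_mulRight_bijective.mp hu)

section exist

variable {R A : Type u} [CommRing R] [CommRing A] [Algebra R A] (𝒜 : ℕ → Submodule R A) [GradedAlgebra 𝒜]
variable {M : Type u} (e : M → A) (he : ∀ m, e m ∈ 𝒜 1) (hgen : Algebra.adjoin R (Set.range e) = ⊤)

/-- Lifting data of a family of sections on an open where one of them generates. -/
def IsLift (q : X ⟶ Spec (CommRingCat.of R)) (L : X.Modules) (v : M → Γ(L, ⊤)) (m : M) (U : X.Opens)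
    (ψ : A →+* Γ(X, U)) : Prop :=
  (∀ m', ψ (e m') • mres L (le_top : U ≤ ⊤) (v m) = mres L (le_top : U ≤ ⊤) (v m')) ∧
    ∀ c, ψ (algebraMap R A c) = ores (le_top : U ≤ ⊤) (_root_.ProjUP.toGlobal q c)

include he hgen in
/-- Existence in the universal property. -/
theorem exists_hom_of_lift (q : X ⟶ Spec (CommRingCat.of R)) (L : X.Modules) (hL : PicF.IsInvertible L)
    (v : M → Γ(L, ⊤)) (hv : _root_.ProjUP.GeneratedBy L v)
    (hψ : ∀ (m : M) (U : X.Opens), IsGen L U (mres L (le_top : U ≤ ⊤) (v m)) → ∃ ψ, IsLift e q L v m U ψ) :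
    ∃ (r : X ⟶ Proj 𝒜) (_ : r ≫ toBase 𝒜 = q)
      (τ : (Scheme.Modules.pullback r).obj (_root_.Twist.twist 𝒜 1) ≅ L),
      ∀ m, τ.hom.app ⊤ (sec 𝒜 r (he m)) = v m := by
  let I := {p : M × X.Opens // IsGen L p.2 (mres L (le_top : p.2 ≤ ⊤) (v p.1))}
  let U : I → X.Opens := fun p => p.1.2
  choose ψ hψe hψc using fun p : I => hψ p.1.1 p.1.2 p.2
  have hψ1 : ∀ p : I, ψ p (e p.1.1) = 1 := fun p => by
    refine (p.2 _ le_rfl).1 ?_
    show _ • mres L le_rfl (mres L le_top (v p.1.1)) = (1 : Γ(X, U p)) • mres L le_rfl (mres L le_top (v p.1.1))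
    rw [one_smul, mres_id, hψe]
  let ψ' : ∀ p : I, A →+* Γ((U p : Scheme.{u}), ⊤) := fun p => (U p).topIso.inv.hom.comp (ψ p)
  have hψ'1 : ∀ p : I, ψ' p (e p.1.1) = 1 := fun p => by
    show (U p).topIso.inv (ψ p (e p.1.1)) = 1
    rw [hψ1, map_one]
  let μ : ∀ p : I, (U p : Scheme.{u}) ⟶ Proj 𝒜 := fun p => chartHom 𝒜 (he p.1.1) (ψ' p) (hψ'1 p)
  have htop : ∀ p : I, (⊤ : (U p : Scheme.{u}).Opens) ≤ μ p ⁻¹ᵁ Proj.basicOpen 𝒜 (e p.1.1) := fun p =>
    top_le_preimage_chartHom 𝒜 (he p.1.1) (ψ' p) (hψ'1 p)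
  have hbase : ∀ p : I, μ p ≫ toBase 𝒜 = (U p).ι ≫ q := fun p => by
    refine ext_of_isAffine ?_
    rw [← cancel_epi (Scheme.ΓSpecIso (CommRingCat.of R)).inv]
    refine CommRingCat.hom_ext (RingHom.ext fun c => ?_)
    have h := ev_algebraMap 𝒜 (he p.1.1) (μ p) ⊤ (htop p) c
    rw [ev_chartHom, ores_id] at h
    refine h.symm.trans ?_
    show (U p).topIso.inv (ψ p (algebraMap R A c)) = _
    rw [hψc, Scheme.Hom.comp_appTop]
    show (X.presheaf.map _ ≫ (U p).topIso.inv) (_root_.ProjUP.toGlobal q c) = (U p).ι.appTop (_root_.ProjUP.toGlobal q c)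
    exact ConcreteCategory.congr_hom (map_topIso_inv (U p)) _
  -- compatibility
  have hcompat : ∀ (p k : I) (hle : U k ≤ U p), X.homOfLE hle ≫ μ p = μ k := fun p k hle => by
    refine ext_of_ev 𝒜 e he hgen ?_ fun x => ?_
    · rw [Category.assoc, hbase, hbase, Scheme.homOfLE_ι_assoc]
    let W := U k
    let h := X.homOfLE hle
    have htop' : (⊤ : (W : Scheme.{u}).Opens) ≤ h ⁻¹ᵁ ⊤ := le_top
    have hp : (⊤ : (W : Scheme.{u}).Opens) ≤ (h ≫ μ p) ⁻¹ᵁ Proj.basicOpen 𝒜 (e p.1.1) :=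
      htop'.trans (h.preimage_mono (htop p))
    have hev : ∀ a, ev 𝒜 (he p.1.1) (h ≫ μ p) ⊤ hp a = W.topIso.inv (ores hle (ψ p a)) := fun a => by
      rw [← ev_comp 𝒜 (he p.1.1) h (μ p) (htop p) htop' a, ev_chartHom]
      show ((U p).topIso.inv ≫ h.appLE ⊤ ⊤ htop') (ψ p a) = (X.presheaf.map _ ≫ W.topIso.inv) (ψ p a)
      exact ConcreteCategory.congr_hom (topIso_inv_appLE_homOfLE (U p) W hle htop') _
    have hunit : IsUnit (ores hle (ψ p (e k.1.1))) := by
      obtain ⟨d, hd⟩ := (k.2 _ le_rfl).2 (mres L (le_top : W ≤ ⊤) (v p.1.1))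
      refine IsUnit.of_mul_eq_one d ?_
      refine ((k.2) _ le_rfl).1 ?_
      show (_ * d) • mres L le_rfl (mres L le_top (v k.1.1)) = (1 : Γ(X, W)) • mres L le_rfl (mres L le_top (v k.1.1))
      rw [mres_id, one_smul, mul_smul]
      have := congrArg (mres L hle) (hψe p k.1.1)
      rw [mres_smul, mres_mres, mres_mres] at this
      refine Eq.trans ?_ this
      congr 1
      refine Eq.trans ?_ hd
      rw [mres_id]
    have hk : (⊤ : (W : Scheme.{u}).Opens) ≤ (h ≫ μ p) ⁻¹ᵁ Proj.basicOpen 𝒜 (e k.1.1) := by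
      have hb := basicOpen_ev 𝒜 (he p.1.1) (h ≫ μ p) ⊤ hp (he k.1.1)
      rw [hev, Scheme.basicOpen_of_isUnit _ (hunit.map W.topIso.inv.hom), top_inf_eq] at hb
      exact hb.le
    refine ⟨k.1.1, ⊤, hk, htop k, trivial, fun m => ?_⟩
    rw [ev_chartHom]
    refine (hunit.map W.topIso.inv.hom).mul_right_cancel ?_
    refine Eq.trans ?_ ((hev (e m)).trans ?_)
    · rw [← ev_mul_ev 𝒜 (h ≫ μ p) (he p.1.1) (he k.1.1) (he m) ⊤ hp hk, hev (e k.1.1)]
    · show W.topIso.inv (ores hle (ψ p (e m))) = W.topIso.inv (ψ k (e m)) * W.topIso.inv (ores hle (ψ p (e k.1.1)))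
      rw [← map_mul]
      congr 1
      have hgp : IsGen L W (mres L (le_top : W ≤ ⊤) (v p.1.1)) := by
        have := p.2.mres hle
        rwa [mres_mres] at this
      refine (hgp W le_rfl).1 ?_
      show _ • mres L le_rfl (mres L le_top (v p.1.1)) = (_ * _) • mres L le_rfl (mres L le_top (v p.1.1))
      have e1 := congrArg (mres L hle) (hψe p m)
      have e2 := congrArg (mres L hle) (hψe p k.1.1)
      rw [mres_smul, mres_mres, mres_mres] at e1 e2
      rw [mres_id, mul_smul, e1, e2, hψe]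
  have hcov : ∀ x : X, ∃ p : I, x ∈ U p := fun x => by
    obtain ⟨m, V, hxV, hV⟩ := exists_isGen_of_generatedBy hL v hv x
    exact ⟨⟨(m, V), hV⟩, hxV⟩
  obtain ⟨r, hr, -⟩ := EGA2.existsUnique_glue (fun p : I => (U p).ι) μ
    (fun x => by obtain ⟨p, hp⟩ := hcov x; exact ⟨p, by rw [Scheme.Opens.opensRange_ι]; exact hp⟩) fun p p' => by
      have hk : IsGen L (U p ⊓ U p') (mres L (le_top : U p ⊓ U p' ≤ ⊤) (v p.1.1)) := by
        have := p.2.mres (inf_le_left : U p ⊓ U p' ≤ U p)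
        rwa [mres_mres] at this
      let k : I := ⟨(p.1.1, U p ⊓ U p'), hk⟩
      refine ⟨k, X.homOfLE inf_le_left, X.homOfLE inf_le_right, Scheme.homOfLE_ι _ _, Scheme.homOfLE_ι _ _, ?_,
        hcompat p k inf_le_left, hcompat p' k inf_le_right⟩
      simp only [Scheme.Opens.opensRange_ι]
      rfl
  have hle : ∀ p : I, U p ≤ r ⁻¹ᵁ Proj.basicOpen 𝒜 (e p.1.1) := fun p x hx => by
    have h1 := htop p (x := ⟨x, hx⟩) trivial
    rw [← hr p] at h1
    exact h1
  have hev : ∀ (p : I) (a : A), ev 𝒜 (he p.1.1) r (U p) (hle p) a = ψ p a := fun p a => by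
    have h1 : (⊤ : (U p : Scheme.{u}).Opens) ≤ (U p).ι ⁻¹ᵁ U p := fun x _ => x.2
    have h2 := ev_comp 𝒜 (he p.1.1) (U p).ι r (hle p) h1 a
    have h3 : ev 𝒜 (he p.1.1) ((U p).ι ≫ r) ⊤ (h1.trans ((U p).ι.preimage_mono (hle p))) a = ψ' p a := by
      have := hr p
      rw [← ev_chartHom 𝒜 (he p.1.1) (ψ' p) (hψ'1 p) a]
      congr 1
      congr 1
    refine ((ConcreteCategory.isIso_iff_bijective (U p).topIso.inv).1 inferInstance).1 ?_
    refine Eq.trans ?_ (h2.trans h3)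
    exact ConcreteCategory.congr_hom (ι_appLE_top (U p) h1).symm _
  have hb : r ≫ toBase 𝒜 = q := (X.openCoverOfIsOpenCover U
    (IsOpenCover.mk (top_le_iff.1 fun x _ => Opens.mem_iSup.2 (hcov x)))).hom_ext _ _ fun (p : I) => by
      show (U p).ι ≫ r ≫ toBase 𝒜 = (U p).ι ≫ q
      rw [← Category.assoc, hr p, hbase]
  obtain ⟨τ, hτ⟩ := exists_iso_of_gen U (top_le_iff.1 fun x _ => Opens.mem_iSup.2 (hcov x))
    (fun p => mres _ (le_top : U p ≤ ⊤) (sec 𝒜 r (he p.1.1))) (fun p => mres L (le_top : U p ≤ ⊤) (v p.1.1))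
    (fun p => isGen_sec_of_le 𝒜 r (he p.1.1) (hle p)) (fun p => p.2) fun p p' V hi hj t ht => by
      simp only [mres_mres] at ht ⊢
      have hs := sec_eq_ev_smul 𝒜 r (he p.1.1) (he p'.1.1) V (hi.trans (hle p))
      rw [hs] at ht
      have ht' := (isGen_sec_of_le 𝒜 r (he p.1.1) (hi.trans (hle p)) V le_rfl).1 (by simpa only [mres_id] using ht)
      have := congrArg (mres L hi) (hψe p p'.1.1)
      rw [mres_smul, mres_mres, mres_mres, ← hev, ev_res, ht'] at this
      exact this.symm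
  refine ⟨r, hb, τ, fun m => modules_eq_of_locally_eq L ⊤ U (fun _ => le_top)
    (fun x _ => Opens.mem_iSup.2 (hcov x)) _ _ fun p => ?_⟩
  rw [← app_mres, sec_eq_ev_smul 𝒜 r (he p.1.1) (he m) (U p) (hle p), Scheme.Modules.Hom.app_smul, hτ, hev]
  exact hψe p m

include he hgen in
/-- The standard opens of generators of degree one cover. -/
theorem exists_mem_basicOpen (y : Proj 𝒜) : ∃ m, y ∈ Proj.basicOpen 𝒜 (e m) := by
  have hgen0 : Algebra.adjoin (𝒜 0) (Set.range e) = ⊤ := top_le_iff.1 fun x h0 => by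
    clear h0
    have hx : x ∈ Algebra.adjoin R (Set.range e) := by rw [hgen]; trivial
    induction hx using Algebra.adjoin_induction with
    | mem y hy => exact Algebra.subset_adjoin hy
    | algebraMap c =>
      exact Subalgebra.algebraMap_mem (Algebra.adjoin (𝒜 0) (Set.range e))
        (⟨_, SetLike.algebraMap_mem_graded 𝒜 c⟩ : 𝒜 0)
    | add y z _ _ hy hz => exact add_mem hy hz
    | mul y z _ _ hy hz => exact mul_mem hy hz
  have hy : y ∈ (⨆ m, Proj.basicOpen 𝒜 (e m)) := by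
    rw [Proj.iSup_basicOpen_eq_top' 𝒜 e (fun m => ⟨1, he m⟩) hgen0]; trivial
  exact Opens.mem_iSup.1 hy

end exist

/-- A symmetric algebra is generated by the module. -/
theorem adjoin_range_eq_top {R A M : Type u} [CommRing R] [CommRing A] [Algebra R A] [AddCommGroup M] [Module R M]
    {ι : M →ₗ[R] A} (h : IsSymmetricAlgebra ι) : Algebra.adjoin R (Set.range ι) = ⊤ := by
  refine top_le_iff.1 fun a ha => ?_
  clear ha
  induction a using h.induction with
  | algebraMap r => exact Subalgebra.algebraMap_mem _ r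
  | ι x => exact Algebra.subset_adjoin ⟨x, rfl⟩
  | mul a b ha hb => exact mul_mem ha hb
  | add a b ha hb => exact add_mem ha hb

end Groth.Agent.ProjUP
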