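import Groth.Agent.Lib.Twist.Triv

/-!
Non-vanishing loci of global sections.
-/

set_option autoImplicit false

universe u

open CategoryTheory Limits AlgebraicGeometry Opposite TopologicalSpace

namespace Groth.Agent.Twist

open Groth.Agent.M1

variable {X : Scheme.{u}} {M N : X.Modules}

theorem isIso_restrict_map_iff (φ : M ⟶ N) (U : X.Opens) :
    IsIso ((Scheme.Modules.restrictFunctor U.ι).map φ) ↔
      ∀ V : X.Opens, V ≤ U → Function.Bijective (φ.app V) := by
  constructor
  · intro h V hV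
    have hb := (ConcreteCategory.isIso_iff_bijective _).1
      (Scheme.Modules.Hom.isIso_iff_isIso_app.1 h (U.ι ⁻¹ᵁ V))
    have e : U.ι ''ᵁ (U.ι ⁻¹ᵁ V) = V := by
      rw [Scheme.Hom.image_preimage_eq_opensRange_inf, Scheme.Opens.opensRange_ι]
      exact inf_eq_right.2 hV
    have hb' : Function.Bijective (φ.app (U.ι ''ᵁ (U.ι ⁻¹ᵁ V))) := hb
    rwa [e] at hb'
  · intro h
    refine isIso_of_bijective_app _ fun W => h (U.ι ''ᵁ W) ?_
    rintro x ⟨y, -, rfl⟩
    exact y.2

/-- `s` is the section it takes `1` to. -/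
theorem eq_secHom (s : Coh.structureModule X ⟶ M) : s = secHom (s.app ⊤ (one ⊤)) :=
  unit_hom_ext (secHom_app_one _).symm

theorem isIso_restrict_secHom_iff (t : Γ(M, ⊤)) (U : X.Opens) :
    IsIso ((Scheme.Modules.restrictFunctor U.ι).map (secHom t)) ↔
      ∀ V : X.Opens, V ≤ U → Function.Bijective fun r : Γ(X, V) => r • mres M (le_top : V ≤ ⊤) t := by
  rw [isIso_restrict_map_iff]
  refine forall₂_congr fun V _ => ?_
  have e : (fun r : Γ(X, V) => (secHom t).app V r) = fun r : Γ(X, V) => r • mres M (le_top : V ≤ ⊤) t :=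
    funext (secHom_app t V)
  exact iff_of_eq (congrArg Function.Bijective e)

theorem le_genLocus {s : Coh.structureModule X ⟶ M} {U : X.Opens}
    (h : IsIso ((Scheme.Modules.restrictFunctor U.ι).map s)) : U ≤ CohB1.genLocus M s :=
  le_sSup h

theorem exists_of_mem_genLocus {s : Coh.structureModule X ⟶ M} {x : X} (h : x ∈ CohB1.genLocus M s) :
    ∃ U : X.Opens, x ∈ U ∧ IsIso ((Scheme.Modules.restrictFunctor U.ι).map s) := by
  obtain ⟨U, hU, hx⟩ := Opens.mem_sSup.1 h
  exact ⟨U, hx, hU⟩

theorem genLocus_comp_iso (s : Coh.structureModule X ⟶ M) (e : M ≅ N) :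
    CohB1.genLocus N (s ≫ e.hom) = CohB1.genLocus M s := by
  unfold CohB1.genLocus
  congr 1
  ext U
  simp only [Set.mem_setOf_eq, Functor.map_comp]
  exact ⟨fun h => IsIso.of_isIso_comp_right _ ((Scheme.Modules.restrictFunctor U.ι).map e.hom),
    fun h => inferInstance⟩

/-- The non-vanishing locus is where the section generates. -/
theorem genLocus_secHom_eq (t : Γ(M, ⊤)) (D : X.Opens)
    (hD : ∀ V : X.Opens, V ≤ D → Function.Bijective fun r : Γ(X, V) => r • mres M (le_top : V ≤ ⊤) t)
    (hnot : ∀ U : X.Opens, (∀ V : X.Opens, V ≤ U →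
      Function.Bijective fun r : Γ(X, V) => r • mres M (le_top : V ≤ ⊤) t) → U ≤ D) :
    CohB1.genLocus M (secHom t) = D := by
  refine le_antisymm (fun x hx => ?_) (le_genLocus ((isIso_restrict_secHom_iff t D).2 hD))
  obtain ⟨U, hxU, hU⟩ := exists_of_mem_genLocus hx
  exact hnot U ((isIso_restrict_secHom_iff t U).1 hU) hxU

end Groth.Agent.Twist
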