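import Groth.Agent.Lib.Twist.Triv
import Groth.Agent.Lib.ModM1.Stalk
import Groth.Agent.Lib.TensorMod.PullStalk

/-!
Generators of rank-one modules: stalkwise criterion, pullback, gluing of isomorphisms.
-/

set_option autoImplicit false

universe u

open CategoryTheory Limits AlgebraicGeometry Opposite TopologicalSpace TensorProduct

namespace Groth.Agent.Twist

open Groth.Agent.M1

variable {X Y : Scheme.{u}}

/-- `g` freely generates `M` on `U`. -/
def IsGen (M : X.Modules) (U : X.Opens) (g : Γ(M, U)) : Prop :=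
  ∀ (V : X.Opens) (h : V ≤ U), Function.Bijective fun r : Γ(X, V) => r • mres M h g

theorem IsGen.mres {M : X.Modules} {U V : X.Opens} {g : Γ(M, U)} (hg : IsGen M U g) (h : V ≤ U) :
    IsGen M V (mres M h g) := fun W hW => by
  simp only [mres_mres]
  exact hg W _

theorem IsGen.stalk {M : X.Modules} {U : X.Opens} {g : Γ(M, U)} (hg : IsGen M U g) {x : X} (hx : x ∈ U) :
    Function.Bijective fun c : X.presheaf.stalk x =>
      c • (M.presheaf.germ U x hx g : M.presheaf.stalk x) := by
  constructor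
  · intro c c' he
    obtain ⟨W, hW, r, rfl⟩ := X.presheaf.exists_germ_eq c
    obtain ⟨W', hW', r', rfl⟩ := X.presheaf.exists_germ_eq c'
    let V := W ⊓ W' ⊓ U
    have hV : x ∈ V := ⟨⟨hW, hW'⟩, hx⟩
    have e1 : X.presheaf.germ W x hW r = X.presheaf.germ V x hV (ores (inf_le_left.trans inf_le_left : V ≤ W) r) :=
      (X.presheaf.germ_res_apply _ x hV r).symm
    have e2 : X.presheaf.germ W' x hW' r' = X.presheaf.germ V x hV (ores (inf_le_left.trans inf_le_right : V ≤ W') r') :=
      (X.presheaf.germ_res_apply _ x hV r').symm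
    replace he : M.presheaf.germ V x hV (ores (inf_le_left.trans inf_le_left : V ≤ W) r • Groth.Agent.M1.mres M (inf_le_right : V ≤ U) g) =
        M.presheaf.germ V x hV (ores (inf_le_left.trans inf_le_right : V ≤ W') r' • Groth.Agent.M1.mres M (inf_le_right : V ≤ U) g) := by
      rw [germ_smul, germ_smul, germ_mres, ← e1, ← e2]
      exact he
    obtain ⟨Z, hZ, i₁, i₂, hz⟩ := M.presheaf.germ_eq x hV hV _ _ he
    replace hz : Groth.Agent.M1.mres M i₁.le (ores (inf_le_left.trans inf_le_left : V ≤ W) r • Groth.Agent.M1.mres M (inf_le_right : V ≤ U) g) =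
        Groth.Agent.M1.mres M i₁.le (ores (inf_le_left.trans inf_le_right : V ≤ W') r' • Groth.Agent.M1.mres M (inf_le_right : V ≤ U) g) := hz
    rw [mres_smul, mres_smul, mres_mres] at hz
    have h0 := (hg Z _).1 hz
    rw [e1, e2, ← X.presheaf.germ_res_apply i₁ x hZ, ← X.presheaf.germ_res_apply i₁ x hZ]
    exact congrArg (X.presheaf.germ Z x hZ) h0
  · intro a
    obtain ⟨W, hW, m, rfl⟩ := M.presheaf.exists_germ_eq a
    have hV : x ∈ W ⊓ U := ⟨hW, hx⟩
    obtain ⟨r, hr⟩ := (hg (W ⊓ U) inf_le_right).2 (Groth.Agent.M1.mres M (inf_le_left : W ⊓ U ≤ W) m)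
    refine ⟨X.presheaf.germ (W ⊓ U) x hV r, ?_⟩
    show _ • (M.presheaf.germ U x hx g : M.presheaf.stalk x) = _
    have hr' := congrArg (M.presheaf.germ (W ⊓ U) x hV) hr
    rwa [germ_smul, germ_mres, germ_mres] at hr'

theorem isGen_of_stalk {M : X.Modules} {U : X.Opens} {g : Γ(M, U)}
    (h : ∀ (x : X) (hx : x ∈ U), Function.Bijective fun c : X.presheaf.stalk x =>
      c • (M.presheaf.germ U x hx g : M.presheaf.stalk x)) : IsGen M U g := by
  intro V hV
  constructor
  · intro r r' he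
    refine TopCat.Presheaf.section_ext X.sheaf V r r' fun x hx => ?_
    refine (h x (hV hx)).1 ?_
    have he' := congrArg (M.presheaf.germ V x hx) he
    rwa [germ_smul, germ_smul, germ_mres] at he'
  · intro m
    have hloc : ∀ x : V, ∃ (W : X.Opens) (hWV : W ≤ V) (r : Γ(X, W)), x.1 ∈ W ∧
        r • Groth.Agent.M1.mres M (hWV.trans hV) g = Groth.Agent.M1.mres M hWV m := fun x => by
      obtain ⟨c, hc⟩ := (h x.1 (hV x.2)).2 (M.presheaf.germ V x.1 x.2 m)
      obtain ⟨W, hW, r, rfl⟩ := X.presheaf.exists_germ_eq c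
      have hWV : x.1 ∈ W ⊓ V := ⟨hW, x.2⟩
      have he : M.presheaf.germ (W ⊓ V) x.1 hWV (ores (inf_le_left : W ⊓ V ≤ W) r •
          Groth.Agent.M1.mres M (inf_le_right.trans hV : W ⊓ V ≤ U) g) =
          M.presheaf.germ (W ⊓ V) x.1 hWV (Groth.Agent.M1.mres M (inf_le_right : W ⊓ V ≤ V) m) := by
        rw [germ_smul, germ_mres, germ_mres, ← hc]
        exact congrArg (· • (M.presheaf.germ U x.1 (hV x.2) g : M.presheaf.stalk x.1))
          (X.presheaf.germ_res_apply (homOfLE (inf_le_left : W ⊓ V ≤ W)) x.1 hWV r)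
      obtain ⟨Z, hZ, i₁, i₂, hz⟩ := M.presheaf.germ_eq x.1 hWV hWV _ _ he
      refine ⟨Z, i₁.le.trans inf_le_right, ores i₁.le (ores inf_le_left r), hZ, ?_⟩
      replace hz : Groth.Agent.M1.mres M i₁.le (ores inf_le_left r • Groth.Agent.M1.mres M (inf_le_right.trans hV) g) =
          Groth.Agent.M1.mres M i₁.le (Groth.Agent.M1.mres M inf_le_right m) := hz
      rwa [mres_smul, mres_mres, mres_mres] at hz
    choose W hW r hx hr using hloc
    have hinj : ∀ (Z : X.Opens) (hZ : Z ≤ U) (a b : Γ(X, Z)),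
        a • Groth.Agent.M1.mres M hZ g = b • Groth.Agent.M1.mres M hZ g → a = b := fun Z hZ a b he =>
      TopCat.Presheaf.section_ext X.sheaf Z a b fun x hx => (h x (hZ hx)).1 (by
        have he' := congrArg (M.presheaf.germ Z x hx) he
        rwa [germ_smul, germ_smul, germ_mres] at he')
    obtain ⟨R, hR, -⟩ := X.sheaf.existsUnique_gluing' W V (fun x => homOfLE (hW x))
      (fun x hxV => Opens.mem_iSup.2 ⟨⟨x, hxV⟩, hx _⟩) r fun x y => by
        refine hinj _ (inf_le_left.trans ((hW x).trans hV)) _ _ ?_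
        show ores (inf_le_left : W x ⊓ W y ≤ W x) (r x) • _ = ores (inf_le_right : W x ⊓ W y ≤ W y) (r y) • _
        have ex := congrArg (Groth.Agent.M1.mres M (inf_le_left : W x ⊓ W y ≤ W x)) (hr x)
        have ey := congrArg (Groth.Agent.M1.mres M (inf_le_right : W x ⊓ W y ≤ W y)) (hr y)
        rw [mres_smul, mres_mres, mres_mres] at ex ey
        exact ex.trans ey.symm
    let R' : Γ(X, V) := R
    refine ⟨R', modules_eq_of_locally_eq M V W hW (fun x hxV => Opens.mem_iSup.2 ⟨⟨x, hxV⟩, hx _⟩) _ _ fun x => ?_⟩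
    show Groth.Agent.M1.mres M (hW x) (R' • Groth.Agent.M1.mres M hV g) = _
    refine (mres_smul M (hW x) R' _).trans ?_
    rw [mres_mres]
    exact (congrArg (fun z : Γ(X, W x) => z • _) (show ores (hW x) R' = r x from hR x)).trans (hr x)

/-- A generator pulls back to a generator. -/
theorem IsGen.pullback (f : Y ⟶ X) {M : X.Modules} {U : X.Opens} {g : Γ(M, U)} (hg : IsGen M U g) :
    IsGen ((Scheme.Modules.pullback f).obj M) (f ⁻¹ᵁ U) (M2.pullSec f M g) := by
  refine isGen_of_stalk fun y hy => ?_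
  let e : X.presheaf.stalk (f y) ≃ₗ[X.presheaf.stalk (f y)] (M.presheaf.stalk (f y) : Type u) :=
    LinearEquiv.ofBijective (LinearMap.toSpanSingleton _ _ (M.presheaf.germ U (f y) hy g)) (hg.stalk hy)
  let e' := (TensorProduct.AlgebraTensorModule.rid (X.presheaf.stalk (f y)) (Y.presheaf.stalk y)
      (Y.presheaf.stalk y)).symm ≪≫ₗ
    TensorProduct.AlgebraTensorModule.congr (LinearEquiv.refl (Y.presheaf.stalk y) (Y.presheaf.stalk y)) e ≪≫ₗ
    M2.pullStalkEquiv f y M
  have h1 : e' 1 = ((Scheme.Modules.pullback f).obj M).presheaf.germ (f ⁻¹ᵁ U) y hy (M2.pullSec f M g) := by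
    simp only [e', LinearEquiv.trans_apply, TensorProduct.AlgebraTensorModule.rid_symm_apply,
      TensorProduct.AlgebraTensorModule.congr_tmul, LinearEquiv.refl_apply]
    rw [show e 1 = (M.presheaf.germ U (f y) hy g : M.presheaf.stalk (f y)) from
      (show e 1 = (1 : X.presheaf.stalk (f y)) • (M.presheaf.germ U (f y) hy g : M.presheaf.stalk (f y)) from rfl).trans
        (one_smul _ _)]
    exact M2.pullStalkEquiv_tmul f y M hy g
  convert e'.bijective using 1
  funext c
  show c • _ = e' c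
  rw [← h1, ← map_smul, smul_eq_mul, mul_one]

section glue

variable {P Q : X.Modules} {ι : Type*} (U : ι → X.Opens) (hcov : ⨆ i, U i = ⊤)
  (p : ∀ i, Γ(P, U i)) (q : ∀ i, Γ(Q, U i)) (hp : ∀ i, IsGen P (U i) (p i)) (hq : ∀ i, IsGen Q (U i) (q i))

/-- The transition functions of `p` are those of `q`. -/
def SameTransition : Prop := ∀ (i j : ι) (V : X.Opens) (hi : V ≤ U i) (hj : V ≤ U j) (t : Γ(X, V)),
  mres P hj (p j) = t • mres P hi (p i) → mres Q hj (q j) = t • mres Q hi (q i)

/-- `ρ` corresponds to `σ`. -/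
def Corr (V : X.Opens) (σ : Γ(P, V)) (ρ : Γ(Q, V)) : Prop :=
  ∀ (i : ι) (W : X.Opens) (hW : W ≤ V) (hi : W ≤ U i) (c : Γ(X, W)),
    mres P hW σ = c • mres P hi (p i) → mres Q hW ρ = c • mres Q hi (q i)

include hcov hp in
theorem corr_unique {V : X.Opens} {σ : Γ(P, V)} {ρ ρ' : Γ(Q, V)} (h : Corr U p q V σ ρ)
    (h' : Corr U p q V σ ρ') : ρ = ρ' := by
  refine modules_eq_of_locally_eq Q V (fun i => V ⊓ U i) (fun i => inf_le_left)
    (by rw [← inf_iSup_eq, hcov, inf_top_eq]) _ _ fun i => ?_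
  obtain ⟨c, hc⟩ := (hp i _ inf_le_right).2 (mres P (inf_le_left : V ⊓ U i ≤ V) σ)
  rw [h i _ inf_le_left inf_le_right c hc.symm, h' i _ inf_le_left inf_le_right c hc.symm]

include hcov hp in
theorem exists_corr (hpq : SameTransition U p q) (V : X.Opens) (σ : Γ(P, V)) : ∃ ρ, Corr U p q V σ ρ := by
  have h := fun i => (hp i (V ⊓ U i) inf_le_right).2 (mres P (inf_le_left : V ⊓ U i ≤ V) σ)
  choose c hc using h
  have key : ∀ i j (W : X.Opens) (hW : W ≤ V) (hi : W ≤ U i) (hj : W ≤ U j) (a b : Γ(X, W)),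
      mres P hW σ = a • mres P hi (p i) → mres P hW σ = b • mres P hj (p j) →
        a • mres Q hi (q i) = b • mres Q hj (q j) := fun i j W hW hi hj a b ha hb => by
    obtain ⟨t, ht⟩ := (hp i W hi).2 (mres P hj (p j))
    rw [hpq i j W hi hj t ht.symm, ← mul_smul]
    congr 1
    refine (hp i W hi).1 ?_
    show a • mres P hi (p i) = (b * t) • mres P hi (p i)
    rw [mul_smul, ← ha, hb]
    exact congrArg (b • ·) ht.symm
  obtain ⟨ρ, hρ, -⟩ := TopCat.Sheaf.existsUnique_gluing' ⟨_, Q.isSheaf⟩ (fun i => V ⊓ U i) V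
    (fun i => homOfLE inf_le_left) (by rw [← inf_iSup_eq, hcov, inf_top_eq])
    (fun i => c i • mres Q inf_le_right (q i)) fun i j => by
      show mres Q (inf_le_left : (V ⊓ U i) ⊓ (V ⊓ U j) ≤ V ⊓ U i) (c i • mres Q inf_le_right (q i)) =
        mres Q (inf_le_right : (V ⊓ U i) ⊓ (V ⊓ U j) ≤ V ⊓ U j) (c j • mres Q inf_le_right (q j))
      rw [mres_smul, mres_smul, mres_mres, mres_mres]
      refine key i j _ (inf_le_left.trans inf_le_left) _ _ _ _ ?_ ?_
      · rw [← mres_mres P (inf_le_left : V ⊓ U i ≤ V) inf_le_left, ← hc i]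
        exact (mres_smul P _ _ _).trans (by rw [mres_mres])
      · rw [← mres_mres P (inf_le_left : V ⊓ U j ≤ V) inf_le_right, ← hc j]
        exact (mres_smul P _ _ _).trans (by rw [mres_mres])
  refine ⟨ρ, fun i W hW hi a ha => ?_⟩
  have hρ' : mres Q (inf_le_left : V ⊓ U i ≤ V) ρ = c i • mres Q inf_le_right (q i) := hρ i
  have hW' : W ≤ V ⊓ U i := le_inf hW hi
  rw [← mres_mres Q (inf_le_left : V ⊓ U i ≤ V) hW', hρ', mres_smul, mres_mres]
  congr 1
  refine (hp i W hi).1 ?_
  show ores hW' (c i) • mres P hi (p i) = a • mres P hi (p i)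
  rw [← ha, ← mres_mres P (inf_le_left : V ⊓ U i ≤ V) hW', ← hc i, mres_smul, mres_mres]

variable (hpq : SameTransition U p q)

/-- The glued map on sections. -/
noncomputable def glueFun (V : X.Opens) (σ : Γ(P, V)) : Γ(Q, V) := (exists_corr U hcov p q hp hpq V σ).choose

theorem corr_glueFun (V : X.Opens) (σ : Γ(P, V)) : Corr U p q V σ (glueFun U hcov p q hp hpq V σ) :=
  (exists_corr U hcov p q hp hpq V σ).choose_spec

theorem glueFun_add (V : X.Opens) (σ σ' : Γ(P, V)) :
    glueFun U hcov p q hp hpq V (σ + σ') =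
      glueFun U hcov p q hp hpq V σ + glueFun U hcov p q hp hpq V σ' := by
  refine corr_unique U hcov p q hp (corr_glueFun U hcov p q hp hpq V _) fun i W hW hi a ha => ?_
  obtain ⟨b, hb⟩ := (hp i W hi).2 (mres P hW σ)
  obtain ⟨b', hb'⟩ := (hp i W hi).2 (mres P hW σ')
  rw [map_add, corr_glueFun U hcov p q hp hpq V σ i W hW hi b hb.symm,
    corr_glueFun U hcov p q hp hpq V σ' i W hW hi b' hb'.symm, ← add_smul]
  congr 1
  refine (hp i W hi).1 ?_
  show (b + b') • _ = a • mres P hi (p i)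
  rw [add_smul, ← ha, map_add, ← hb, ← hb']

theorem glueFun_smul (V : X.Opens) (r : Γ(X, V)) (σ : Γ(P, V)) :
    glueFun U hcov p q hp hpq V (r • σ) = r • glueFun U hcov p q hp hpq V σ := by
  refine corr_unique U hcov p q hp (corr_glueFun U hcov p q hp hpq V _) fun i W hW hi a ha => ?_
  obtain ⟨b, hb⟩ := (hp i W hi).2 (mres P hW σ)
  rw [mres_smul, corr_glueFun U hcov p q hp hpq V σ i W hW hi b hb.symm, ← mul_smul]
  congr 1
  refine (hp i W hi).1 ?_
  show (_ * b) • _ = a • mres P hi (p i)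
  rw [mul_smul, ← ha, mres_smul, ← hb]

theorem glueFun_mres {V V' : X.Opens} (h : V' ≤ V) (σ : Γ(P, V)) :
    glueFun U hcov p q hp hpq V' (mres P h σ) = mres Q h (glueFun U hcov p q hp hpq V σ) := by
  refine corr_unique U hcov p q hp (corr_glueFun U hcov p q hp hpq V' _) fun i W hW hi a ha => ?_
  rw [mres_mres] at ha ⊢
  exact corr_glueFun U hcov p q hp hpq V σ i W _ hi a ha

/-- The glued morphism. -/
noncomputable def glueHom : P ⟶ Q :=
  ⟨PresheafOfModules.homMk
    { app := fun V => AddCommGrpCat.ofHom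
        (AddMonoidHom.mk' (glueFun U hcov p q hp hpq V.unop) (glueFun_add U hcov p q hp hpq V.unop))
      naturality := fun V V' i => by
        ext σ
        exact glueFun_mres U hcov p q hp hpq (leOfHom i.unop) σ }
    (fun V r σ => glueFun_smul U hcov p q hp hpq V.unop r σ)⟩

theorem glueHom_app (V : X.Opens) (σ : Γ(P, V)) :
    (glueHom U hcov p q hp hpq).app V σ = glueFun U hcov p q hp hpq V σ := rfl

theorem glueHom_app_gen (i : ι) : (glueHom U hcov p q hp hpq).app (U i) (p i) = q i := by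
  rw [glueHom_app]
  have h := corr_glueFun U hcov p q hp hpq (U i) (p i) i (U i) le_rfl le_rfl 1 (one_smul _ _).symm
  rwa [one_smul, mres_id, mres_id] at h

include hq in
theorem isIso_glueHom : IsIso (glueHom U hcov p q hp hpq) := by
  have hqp : SameTransition U q p := fun i j V hi hj t ht => by
    obtain ⟨t', ht'⟩ := (hp i V hi).2 (mres P hj (p j))
    have := hpq i j V hi hj t' ht'.symm
    rw [← ht', (hq i V hi).1 (this.symm.trans ht)]
  refine ⟨glueHom U hcov q p hq hqp, ?_, ?_⟩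
  · refine Scheme.Modules.hom_ext _ _ fun V => ?_
    ext σ
    show glueFun U hcov q p hq hqp V (glueFun U hcov p q hp hpq V σ) = σ
    refine corr_unique U hcov q p hq (corr_glueFun U hcov q p hq hqp V _) fun i W hW hi a ha => ?_
    obtain ⟨b, hb⟩ := (hp i W hi).2 (mres P hW σ)
    rw [corr_glueFun U hcov p q hp hpq V σ i W hW hi b hb.symm] at ha
    rw [← (hq i W hi).1 ha]
    exact hb.symm
  · refine Scheme.Modules.hom_ext _ _ fun V => ?_
    ext σ
    show glueFun U hcov p q hp hpq V (glueFun U hcov q p hq hqp V σ) = σ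
    refine corr_unique U hcov p q hp (corr_glueFun U hcov p q hp hpq V _) fun i W hW hi a ha => ?_
    obtain ⟨b, hb⟩ := (hq i W hi).2 (mres Q hW σ)
    rw [corr_glueFun U hcov q p hq hqp V σ i W hW hi b hb.symm] at ha
    rw [← (hp i W hi).1 ha]
    exact hb.symm

include hcov hp hq hpq in
/-- Modules with generators having the same transition functions are isomorphic. -/
theorem exists_iso_of_gen : ∃ τ : P ≅ Q, ∀ i, τ.hom.app (U i) (p i) = q i := by
  have := isIso_glueHom U hcov p q hp hq hpq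
  exact ⟨asIso (glueHom U hcov p q hp hpq), glueHom_app_gen U hcov p q hp hpq⟩

end glue

end Groth.Agent.Twist
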