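import Groth.Agent.Lib.Twist.Tensor
import Groth.Agent.Lib.Twist.GenLocus
import Groth.Agent.Lib.EGA2.Graded

/-!
Non-vanishing loci of sections of `O(d)`; ampleness.
-/

set_option autoImplicit false

open CategoryTheory CategoryTheory.Limits AlgebraicGeometry TopologicalSpace Opposite

universe u

namespace Groth.Agent.Twist

open _root_.Twist

variable {R A : Type u} [CommRing R] [CommRing A] [Algebra R A] (𝒜 : ℕ → Submodule R A) [GradedAlgebra 𝒜]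

/-- `f/1` as a global section of `O(d)`. -/
noncomputable def gsec {d : ℕ} (f : 𝒜 d) : Γ(_root_.Twist.twist 𝒜 (d : ℤ), ⊤) := globalOf 𝒜 f

theorem bijective_smul_gsec {d : ℕ} (f : 𝒜 d) (V : (Proj 𝒜).Opens) (hV : V ≤ Proj.basicOpen 𝒜 (f : A)) :
    Function.Bijective fun r : Γ(Proj 𝒜, V) =>
      r • Groth.Agent.M1.mres (_root_.Twist.twist 𝒜 (d : ℤ)) (le_top : V ≤ ⊤) (gsec 𝒜 f) := by
  let U := Proj.basicOpen 𝒜 (f : A)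
  have h1 : ∀ x : ProjectiveSpectrum 𝒜, (1 : A) ∉ x.asHomogeneousIdeal :=
    fun x h => x.isPrime.ne_top ((Ideal.eq_top_iff_one _).mpr h)
  let e : Sec (𝒜 := 𝒜) (d : ℤ) U := frac 𝒜 U f.2 (SetLike.one_mem_graded 𝒜) (by simp) (fun x _ => h1 x)
  let e' : Sec (𝒜 := 𝒜) (-(d : ℤ)) U := frac 𝒜 U (SetLike.one_mem_graded 𝒜) f.2 (by simp) le_rfl
  exact bijective_smul_of_inverse e e' (fun x hx => mk_mul_mk_eq_one 𝒜 hx (h1 x)) V hV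

theorem le_basicOpen_of_bijective (hcov : (⨆ g : 𝒜 1, Proj.basicOpen 𝒜 (g : A)) = ⊤) {d : ℕ} (f : 𝒜 d)
    (U : (Proj 𝒜).Opens)
    (hU : ∀ V : (Proj 𝒜).Opens, V ≤ U → Function.Bijective fun r : Γ(Proj 𝒜, V) =>
      r • Groth.Agent.M1.mres (_root_.Twist.twist 𝒜 (d : ℤ)) (le_top : V ≤ ⊤) (gsec 𝒜 f)) :
    U ≤ Proj.basicOpen 𝒜 (f : A) := by
  intro x hx
  have hx' : x ∈ (⨆ g : 𝒜 1, Proj.basicOpen 𝒜 (g : A)) := by rw [hcov]; trivial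
  obtain ⟨⟨g, hg⟩, hgx⟩ := Opens.mem_iSup.1 hx'
  have hgd : g ^ d ∈ 𝒜 d := by simpa using SetLike.pow_mem_graded d hg
  obtain ⟨r, hr⟩ := (hU (U ⊓ Proj.basicOpen 𝒜 g) inf_le_left).2
    (Groth.Agent.M1.mres (_root_.Twist.twist 𝒜 (d : ℤ)) (le_top : U ⊓ Proj.basicOpen 𝒜 g ≤ ⊤) (gsec 𝒜 ⟨_, hgd⟩))
  let p : ProjectiveSpectrum 𝒜 := x
  have hgp : g ^ d ∉ p.asHomogeneousIdeal := fun h => hgx (p.isPrime.mem_of_pow_mem d h)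
  have h1 : (1 : A) ∉ p.asHomogeneousIdeal := fun h => p.isPrime.ne_top ((Ideal.eq_top_iff_one _).mpr h)
  refine (mem_basicOpen_iff_span 𝒜 f p hgd (SetLike.one_mem_graded 𝒜) (by simp) hgp h1).2 (top_le_iff.1 ?_)
  rw [← (mem_basicOpen_iff_span 𝒜 ⟨_, hgd⟩ p hgd (SetLike.one_mem_graded 𝒜) (by simp) hgp h1).1 hgp,
    Submodule.span_singleton_le_iff_mem, Submodule.mem_span_singleton]
  refine ⟨r.1 ⟨p, hx, hgx⟩, Subtype.ext ?_⟩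
  have hv := congrArg (fun s : Γ(_root_.Twist.twist 𝒜 (d : ℤ), U ⊓ Proj.basicOpen 𝒜 g) =>
    val (n := (d : ℤ)) (U := U ⊓ Proj.basicOpen 𝒜 g) s p ⟨hx, hgx⟩) hr
  simp only [val_smul] at hv
  exact hv

/-- `(Proj 𝒜)_{f/1} = D₊(f)`. -/
theorem genLocus_gsec (hcov : (⨆ g : 𝒜 1, Proj.basicOpen 𝒜 (g : A)) = ⊤) {d : ℕ} (f : 𝒜 d) :
    CohB1.genLocus (_root_.Twist.twist 𝒜 (d : ℤ)) (Groth.Agent.M1.secHom (gsec 𝒜 f)) =
      Proj.basicOpen 𝒜 (f : A) :=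
  genLocus_secHom_eq _ _ (bijective_smul_gsec 𝒜 f) (le_basicOpen_of_bijective 𝒜 hcov f)

theorem nonempty_tensorPow_one_iso (d : ℕ) (hcov : (⨆ g : 𝒜 1, Proj.basicOpen 𝒜 (g : A)) = ⊤) :
    Nonempty (CohB1.tensorPow (_root_.Twist.twist 𝒜 (d : ℤ)) 1 ≅ _root_.Twist.twist 𝒜 (d : ℤ)) := by
  obtain ⟨z⟩ := nonempty_twist_zero_iso 𝒜
  obtain ⟨t⟩ := nonempty_tensor_iso 𝒜 0 (d : ℤ) hcov
  exact ⟨tensorModIso z.symm (Iso.refl _) ≪≫ t ≪≫ eqToIso (congrArg _ (zero_add _))⟩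

theorem isAmple_twist {ι : Type*} [Finite ι] (g : ι → A) (hg : ∀ i, g i ∈ 𝒜 1)
    (hgen : (HomogeneousIdeal.irrelevant 𝒜).toIdeal ≤ Ideal.span (Set.range g)) {d : ℕ} (hd : 0 < d) :
    CohB1.IsAmple (_root_.Twist.twist 𝒜 (d : ℤ)) := by
  have hcov' : ∀ x : Proj 𝒜, ∃ i, x ∈ Proj.basicOpen 𝒜 (g i) := fun x => by
    have hx : x ∈ (⨆ i, Proj.basicOpen 𝒜 (g i)) := by rw [Proj.iSup_basicOpen_eq_top 𝒜 g hgen]; trivial
    exact Opens.mem_iSup.1 hx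
  have hcov : (⨆ f : 𝒜 1, Proj.basicOpen 𝒜 (f : A)) = ⊤ := top_le_iff.1 fun x _ => by
    obtain ⟨i, hi⟩ := hcov' x
    exact Opens.mem_iSup.2 ⟨⟨g i, hg i⟩, hi⟩
  refine ⟨isInvertible_twist 𝒜 hcov _, ?_, fun x => ?_⟩
  · refine ⟨?_⟩
    have hu : (Set.univ : Set (Proj 𝒜)) = ⋃ i, (Proj.basicOpen 𝒜 (g i) : Set (Proj 𝒜)) := by
      ext x; simpa using hcov' x
    rw [hu]
    exact isCompact_iUnion fun i => (Proj.isAffineOpen_basicOpen 𝒜 (g i) (hg i) Nat.one_pos).isCompact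
  · obtain ⟨i, hi⟩ := hcov' x
    have hgd : g i ^ d ∈ 𝒜 d := by simpa using SetLike.pow_mem_graded d (hg i)
    have e : Proj.basicOpen 𝒜 (g i ^ d) = Proj.basicOpen 𝒜 (g i) := by
      refine le_antisymm (fun y hy h => hy (Ideal.pow_mem_of_mem _ h d hd)) fun y hy h => ?_
      exact hy (y.isPrime.mem_of_pow_mem d h)
    obtain ⟨t⟩ := nonempty_tensorPow_one_iso 𝒜 d hcov
    refine ⟨0, Groth.Agent.M1.secHom (gsec 𝒜 ⟨_, hgd⟩) ≫ t.inv, ?_⟩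
    have hg' : CohB1.genLocus _ (Groth.Agent.M1.secHom (gsec 𝒜 ⟨_, hgd⟩) ≫ t.inv) = Proj.basicOpen 𝒜 (g i) :=
      ((genLocus_comp_iso _ t.symm).trans (genLocus_gsec 𝒜 hcov _)).trans e
    rw [hg']
    exact ⟨hi, Proj.isAffineOpen_basicOpen 𝒜 (g i) (hg i) Nat.one_pos⟩

end Groth.Agent.Twist
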