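import Groth.Agent.Lib.Twist.Invertible
import Groth.Agent.Lib.EGA2.ProjMap

/-!
Global sections of the twisting sheaves.
-/

set_option autoImplicit false

open CategoryTheory CategoryTheory.Limits AlgebraicGeometry TopologicalSpace Opposite HomogeneousLocalization

universe u

namespace Groth.Agent.Twist

open _root_.Twist

variable {R A : Type u} [CommRing R] [CommRing A] [Algebra R A] (𝒜 : ℕ → Submodule R A) [GradedAlgebra 𝒜]

theorem mk_eq_iff {x : ProjectiveSpectrum 𝒜} {a b s t : A} (hs : s ∉ x.asHomogeneousIdeal)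
    (ht : t ∉ x.asHomogeneousIdeal) :
    Localization.mk a (⟨s, hs⟩ : x.asHomogeneousIdeal.toIdeal.primeCompl) = Localization.mk b ⟨t, ht⟩ ↔
      ∃ w : A, w ∉ x.asHomogeneousIdeal ∧ w * (t * a) = w * (s * b) := by
  rw [Localization.mk_eq_mk_iff, Localization.r_iff_exists]
  exact ⟨fun ⟨⟨w, hw⟩, h⟩ => ⟨w, hw, h⟩, fun ⟨w, hw, h⟩ => ⟨⟨w, hw⟩, h⟩⟩

/-- The function on `D₊(h)` given by an element of `A_(h)`. -/
theorem valO_awayToSection {h : A} {m N : ℕ} (hh : h ∈ 𝒜 m) {a : A} (ha : a ∈ 𝒜 (N • m))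
    (x : ProjectiveSpectrum 𝒜) (hx : x ∈ Proj.basicOpen 𝒜 h) (hx' : h ^ N ∉ x.asHomogeneousIdeal) :
    valO (Proj.awayToSection 𝒜 h (Away.mk 𝒜 hh N a ha)) x hx = Localization.mk a ⟨h ^ N, hx'⟩ := rfl

/-- A section vanishing on `D₊(fg)` is killed by a power of `fg`. -/
theorem exists_pow_mul_eq_zero {f g : A} (hf : f ∈ 𝒜 1) (hg : g ∈ 𝒜 1) {e : ℕ} {c : A} (hc : c ∈ 𝒜 e)
    (h : ∀ x : ProjectiveSpectrum 𝒜, x ∈ Proj.basicOpen 𝒜 (f * g) →
      ∃ w : A, w ∉ x.asHomogeneousIdeal ∧ w * c = 0) :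
    ∃ N : ℕ, (f * g) ^ N * c = 0 := by
  have hfg : f * g ∈ 𝒜 2 := SetLike.mul_mem_graded hf hg
  have hce : c * f ^ e ∈ 𝒜 (e • 2) := by
    have := SetLike.mul_mem_graded hc (SetLike.pow_mem_graded e hf)
    convert this using 2
    simp [two_mul, mul_two]
  have h0 : Proj.awayToSection 𝒜 (f * g) (Away.mk 𝒜 hfg e _ hce) = 0 := by
    refine sectionO_ext fun x hx => ?_
    have hx' : (f * g) ^ e ∉ x.asHomogeneousIdeal := fun h' => hx (x.isPrime.mem_of_pow_mem e h')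
    rw [valO_awayToSection 𝒜 hfg hce x hx hx']
    obtain ⟨w, hw, hwc⟩ := h x hx
    have h1 : (1 : A) ∉ x.asHomogeneousIdeal := fun h' => x.isPrime.ne_top ((Ideal.eq_top_iff_one _).mpr h')
    show Localization.mk _ _ = (0 : A0 𝒜 x).val
    rw [HomogeneousLocalization.val_zero, ← Localization.mk_zero ⟨1, h1⟩, mk_eq_iff]
    exact ⟨w, hw, by rw [one_mul, mul_zero, mul_zero, ← mul_assoc, hwc, zero_mul]⟩
  have hz : Away.mk 𝒜 hfg e _ hce = 0 := by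
    have := ((ConcreteCategory.isIso_iff_bijective (Proj.basicOpenIsoAway 𝒜 (f * g) hfg Nat.two_pos).hom).1
      inferInstance).1
    refine this ?_
    rw [Proj.basicOpenIsoAway_hom, h0, map_zero]
  obtain ⟨k, hk⟩ := (EGA2.away_mk_eq_zero_iff 𝒜 hfg).1 hz
  refine ⟨k + e, ?_⟩
  calc (f * g) ^ (k + e) * c = g ^ e * ((f * g) ^ k * (c * f ^ e)) := by ring
    _ = 0 := by rw [hk, mul_zero]

/-- A section over `D₊(f)`, `deg f = 1`, is a fraction `a / f ^ k`. -/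
theorem exists_eq_frac {f : A} (hf : f ∈ 𝒜 1) {n : ℤ}
    (s : Sec (𝒜 := 𝒜) n (Proj.basicOpen 𝒜 f)) :
    ∃ (i k : ℕ) (a : A), a ∈ 𝒜 i ∧ (i : ℤ) = k + n ∧
      ∀ x (hx : x ∈ Proj.basicOpen 𝒜 f), ∃ hx' : f ^ k ∉ x.asHomogeneousIdeal,
        val s x hx = Localization.mk a ⟨f ^ k, hx'⟩ := by
  have hpow : ∀ p : ℕ, f ^ p ∈ 𝒜 p := fun p => by simpa using SetLike.pow_mem_graded p hf
  have hne : ∀ (p : ℕ) (x : ProjectiveSpectrum 𝒜), x ∈ Proj.basicOpen 𝒜 f → f ^ p ∉ x.asHomogeneousIdeal :=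
    fun p x hx h' => hx (x.isPrime.mem_of_pow_mem p h')
  obtain ⟨p, q, hpq⟩ : ∃ p q : ℕ, n = (p : ℤ) - q := ⟨n.toNat, (-n).toNat, by omega⟩
  let e' : Sec (𝒜 := 𝒜) (-n) (Proj.basicOpen 𝒜 f) := frac 𝒜 _ (hpow q) (hpow p) (by omega) (fun x hx => hne p x hx)
  obtain ⟨r, hr⟩ := exists_valO_eq (castSec (add_neg_cancel n) (mulSec s e'))
  obtain ⟨z, hz⟩ := ((ConcreteCategory.isIso_iff_bijective (Proj.basicOpenIsoAway 𝒜 f hf Nat.one_pos).hom).1
    inferInstance).2 r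
  obtain ⟨k, a, ha, rfl⟩ := Away.mk_surjective 𝒜 hf z
  rw [Proj.basicOpenIsoAway_hom] at hz
  refine ⟨k + p, k + q, a * f ^ p, ?_, by push_cast; omega, fun (x : ProjectiveSpectrum 𝒜) hx => ⟨hne _ x hx, ?_⟩⟩
  · simpa using SetLike.mul_mem_graded (show a ∈ 𝒜 k by simpa using ha) (hpow p)
  have h := hr x hx
  rw [← hz] at h
  replace h := (valO_awayToSection 𝒜 hf ha x hx (hne k x hx)).symm.trans h
  erw [val_castSec, val_mulSec, val_frac] at h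
  have h2 := congrArg (· * Localization.mk (f ^ p) (⟨f ^ q, hne q x hx⟩ : x.asHomogeneousIdeal.toIdeal.primeCompl)) h
  simp only [mul_assoc, mk_mul_mk_eq_one 𝒜 (hne q x hx) (hne p x hx), mul_one] at h2
  rw [← h2, Localization.mk_mul]
  exact congrArg _ (Subtype.ext (pow_add f k q).symm)

/-- The value of a global section. -/
theorem val_globalOf {i : ℕ} (a : 𝒜 i) (x : ProjectiveSpectrum 𝒜) (hx : x ∈ (⊤ : (Proj 𝒜).Opens))
    (h1 : (1 : A) ∉ x.asHomogeneousIdeal) :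
    val (n := (i : ℤ)) (U := ⊤) (globalOf 𝒜 a) x hx = Localization.mk a.1 ⟨1, h1⟩ := rfl

section NZD

variable {ι : Type*} (f : ι → A) (hf : ∀ i, f i ∈ 𝒜 1) (hnzd : ∀ i, f i ∈ nonZeroDivisors A)
  (hcov : ∀ x : ProjectiveSpectrum 𝒜, ∃ i, f i ∉ x.asHomogeneousIdeal)

include hf hnzd in
theorem mul_pow_eq_of_eq_frac {i j : ι} {di dj k l : ℕ} {a b : A} (ha : a ∈ 𝒜 di) (hb : b ∈ 𝒜 dj)
    (hdeg : l + di = k + dj)
    (h : ∀ x (hi : f i ^ k ∉ (x : ProjectiveSpectrum 𝒜).asHomogeneousIdeal) (hj : f j ^ l ∉ x.asHomogeneousIdeal),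
      f i ∉ x.asHomogeneousIdeal → f j ∉ x.asHomogeneousIdeal →
      Localization.mk a (⟨_, hi⟩ : x.asHomogeneousIdeal.toIdeal.primeCompl) = Localization.mk b ⟨_, hj⟩) :
    f j ^ l * a = f i ^ k * b := by
  have hc : f j ^ l * a - f i ^ k * b ∈ 𝒜 (l + di) := by
    refine sub_mem ?_ ?_
    · simpa using SetLike.mul_mem_graded (SetLike.pow_mem_graded l (hf j)) ha
    · rw [hdeg]; simpa using SetLike.mul_mem_graded (SetLike.pow_mem_graded k (hf i)) hb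
  obtain ⟨N, hN⟩ := exists_pow_mul_eq_zero 𝒜 (hf i) (hf j) hc fun x hx => by
    have hxi : f i ∉ x.asHomogeneousIdeal := fun h' => hx (Ideal.mul_mem_right _ _ h')
    have hxj : f j ∉ x.asHomogeneousIdeal := fun h' => hx (Ideal.mul_mem_left _ _ h')
    obtain ⟨w, hw, he⟩ := (mk_eq_iff 𝒜 _ _).1
      (h x (fun h' => hxi (x.isPrime.mem_of_pow_mem k h')) (fun h' => hxj (x.isPrime.mem_of_pow_mem l h')) hxi hxj)
    exact ⟨w, hw, by rw [mul_sub, he, sub_self]⟩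
  exact sub_eq_zero.1 ((mul_left_mem_nonZeroDivisors_eq_zero_iff
    (pow_mem (mul_mem (hnzd i) (hnzd j)) N)).1 hN)

variable {i₀ i₁ : ι}

include hf hnzd hcov in
theorem exists_globalOf_or_zero {n : ℤ}
    (hdiv : ∀ (k l e : ℕ) (a : A), a ∈ 𝒜 e → (e : ℤ) = k + n → f i₀ ^ k ∣ f i₁ ^ l * a → f i₀ ^ k ∣ a)
    (s : Sec (𝒜 := 𝒜) n ⊤) :
    ∃ q : A, (∀ x hx (h1 : (1 : A) ∉ (x : ProjectiveSpectrum 𝒜).asHomogeneousIdeal),
      val s x hx = Localization.mk q ⟨1, h1⟩) ∧ ((∃ d : ℕ, n = d ∧ q ∈ 𝒜 d) ∨ (n < 0 ∧ q = 0)) := by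
  classical
  choose di k a ha hd hval using fun i => exists_eq_frac 𝒜 (hf i)
    (resN n (homOfLE (le_top : Proj.basicOpen 𝒜 (f i) ≤ ⊤)).op s)
  have hglue : ∀ i j, f j ^ k j * a i = f i ^ k i * a j := fun i j => by
    refine mul_pow_eq_of_eq_frac 𝒜 f hf hnzd (ha i) (ha j)
      (by have := hd i; have := hd j; omega) fun x hi hj hxi hxj => ?_
    obtain ⟨_, e1⟩ := hval i x hxi
    obtain ⟨_, e2⟩ := hval j x hxj
    exact e1.symm.trans e2
  obtain ⟨q, hq⟩ := hdiv (k i₀) (k i₁) _ (a i₀) (ha i₀) (hd i₀) (Dvd.intro _ (hglue i₀ i₁).symm)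
  -- the homogeneous component
  have hq' : ∀ i, a i = f i ^ k i * q := fun i => by
    refine (mul_cancel_left_mem_nonZeroDivisors (pow_mem (hnzd i₀) (k i₀))).1 ?_
    rw [hglue i i₀, hq]; ring
  have hp : ∀ i, f i ^ k i ∈ 𝒜 (k i) := fun i => by simpa using SetLike.pow_mem_graded (k i) (hf i)
  have hsec : ∀ x hx (h1 : (1 : A) ∉ (x : ProjectiveSpectrum 𝒜).asHomogeneousIdeal),
      val s x hx = Localization.mk q ⟨1, h1⟩ := fun x hx h1 => by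
    obtain ⟨i, hi⟩ := hcov x
    obtain ⟨hx', e⟩ := hval i x hi
    refine (show val s x hx = _ from e).trans ((mk_eq_iff 𝒜 _ _).2 ⟨1, h1, ?_⟩)
    rw [hq' i]; ring
  have hd0 := hd i₀
  rcases lt_or_ge n 0 with hn | hn
  · refine ⟨q, hsec, Or.inr ⟨hn, ?_⟩⟩
    have hne : ∀ j, DirectSum.decompose 𝒜 (f i₀ ^ k i₀ * q) j = DirectSum.decompose 𝒜 (a i₀) j := fun j => by
      rw [← hq]
    have : a i₀ = 0 := by
      rw [← DirectSum.decompose_of_mem_same 𝒜 (ha i₀), ← hne (di i₀),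
        DirectSum.coe_decompose_mul_of_left_mem_of_not_le 𝒜 (hp i₀) (by omega)]
    exact (mul_left_mem_nonZeroDivisors_eq_zero_iff (pow_mem (hnzd i₀) (k i₀))).1 (hq.symm.trans this)
  · refine ⟨q, hsec, Or.inl ⟨n.toNat, by omega, ?_⟩⟩
    have : a i₀ = f i₀ ^ k i₀ * (DirectSum.decompose 𝒜 q n.toNat : A) := by
      conv_lhs => rw [← DirectSum.decompose_of_mem_same 𝒜 (ha i₀), hq]
      rw [DirectSum.coe_decompose_mul_of_left_mem 𝒜 _ (hp i₀), if_pos (by omega),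
        show di i₀ - k i₀ = n.toNat by omega]
    rw [(mul_cancel_left_mem_nonZeroDivisors (pow_mem (hnzd i₀) (k i₀))).1 (hq.symm.trans this)]
    exact SetLike.coe_mem _

include hf hnzd hcov in
theorem globalOf_bijective (d : ℕ)
    (hdiv : ∀ (k l e : ℕ) (a : A), a ∈ 𝒜 e → (e : ℤ) = k + (d : ℤ) → f i₀ ^ k ∣ f i₁ ^ l * a → f i₀ ^ k ∣ a) : Function.Bijective (fun a : 𝒜 d => globalOf 𝒜 a) := by
  constructor
  · intro a b hab
    refine Subtype.ext ?_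
    have h1 := mul_pow_eq_of_eq_frac 𝒜 f hf hnzd (i := i₀) (j := i₀) (k := 0) (l := 0) a.2 b.2 rfl
      fun x hi hj hxi _ => by
        simp only [pow_zero]
        exact congrArg (fun s => val (n := (d : ℤ)) (U := ⊤) s x trivial) hab
    simpa using h1
  · intro s
    obtain ⟨q, hs, ⟨d', hd', hq⟩ | ⟨hlt, -⟩⟩ := exists_globalOf_or_zero 𝒜 f hf hnzd hcov (n := (d : ℤ)) hdiv s
    · obtain rfl : d = d' := by omega
      exact ⟨⟨q, hq⟩, sec_ext fun x hx =>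
        (val_globalOf 𝒜 _ x hx _).trans (hs x hx fun h => x.isPrime.ne_top ((Ideal.eq_top_iff_one _).mpr h)).symm⟩
    · omega

include hf hnzd hcov in
theorem subsingleton_sections_neg {n : ℤ} (hn : n < 0)
    (hdiv : ∀ (k l e : ℕ) (a : A), a ∈ 𝒜 e → (e : ℤ) = k + n → f i₀ ^ k ∣ f i₁ ^ l * a → f i₀ ^ k ∣ a) : Subsingleton (Sec (𝒜 := 𝒜) n ⊤) := by
  refine ⟨fun s t => ?_⟩
  have h0 : ∀ s : Sec (𝒜 := 𝒜) n ⊤, ∀ x hx, val s x hx = 0 := fun s x hx => by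
    obtain ⟨q, hs, ⟨d, hd, -⟩ | ⟨-, rfl⟩⟩ := exists_globalOf_or_zero 𝒜 f hf hnzd hcov hdiv s
    · omega
    · rw [hs x hx fun h => x.isPrime.ne_top ((Ideal.eq_top_iff_one _).mpr h), Localization.mk_zero]
  exact sec_ext fun x hx => by rw [h0 s, h0 t]

end NZD

end Groth.Agent.Twist
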