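import Groth.Agent.Lib.Twist.Global
import Groth.Agent.Lib.EGA2.Graded
import Mathlib.RingTheory.GradedAlgebra.Radical

/-!
Sections of `O(n)` over `D₊(h)` are fractions `a / h ^ k`, for `h` of any positive degree.
-/

set_option autoImplicit false

open CategoryTheory CategoryTheory.Limits AlgebraicGeometry TopologicalSpace Opposite

universe u

namespace Groth.Agent.Twist

open _root_.Twist

variable {R A : Type u} [CommRing R] [CommRing A] [Algebra R A] (𝒜 : ℕ → Submodule R A) [GradedAlgebra 𝒜]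

theorem one_notMem_prime (x : ProjectiveSpectrum 𝒜) : (1 : A) ∉ x.asHomogeneousIdeal :=
  fun h => x.isPrime.ne_top ((Ideal.eq_top_iff_one _).mpr h)

theorem pow_notMem {x : ProjectiveSpectrum 𝒜} {f : A} (hf : f ∉ x.asHomogeneousIdeal) (k : ℕ) :
    f ^ k ∉ x.asHomogeneousIdeal := fun h => hf (x.isPrime.mem_of_pow_mem k h)

theorem pow_mem_smul {f : A} {d : ℕ} (hf : f ∈ 𝒜 d) (k : ℕ) : f ^ k ∈ 𝒜 (k * d) := by
  simpa [smul_eq_mul] using SetLike.pow_mem_graded k hf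

/-- A homogeneous ideal without zeros on `D₊(h)` contains a power of `h`. -/
theorem exists_pow_mem_of_forall {I : Ideal A} (hI : I.IsHomogeneous 𝒜) {h : A} {m : ℕ} (hm : 0 < m)
    (hh : h ∈ 𝒜 m)
    (hx : ∀ x : ProjectiveSpectrum 𝒜, h ∉ x.asHomogeneousIdeal → ¬ I ≤ x.asHomogeneousIdeal.toIdeal) :
    ∃ N : ℕ, h ^ N ∈ I := by
  have : h ∈ I.radical := by
    rw [hI.radical_eq, Ideal.mem_sInf]
    rintro J ⟨hJ, hIJ, hJp⟩
    by_contra hhJ
    let x : ProjectiveSpectrum 𝒜 := ⟨⟨J, hJ⟩, hJp, fun hle => hhJ (hle (EGA2.mem_irr_of_mem 𝒜 hm hh))⟩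
    exact hx x hhJ hIJ
  exact this

/-- A homogeneous element vanishing on `D₊(h)` is killed by a power of `h`. -/
theorem exists_pow_mul_eq_zero_of_forall {h : A} {m : ℕ} (hm : 0 < m) (hh : h ∈ 𝒜 m) {e : ℕ} {c : A}
    (hc : c ∈ 𝒜 e)
    (H : ∀ x : ProjectiveSpectrum 𝒜, h ∉ x.asHomogeneousIdeal → ∃ w : A, w ∉ x.asHomogeneousIdeal ∧ w * c = 0) :
    ∃ N : ℕ, h ^ N * c = 0 := by
  classical
  let S : Set A := {w | SetLike.IsHomogeneousElem 𝒜 w ∧ w * c = 0}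
  obtain ⟨N, hN⟩ := exists_pow_mem_of_forall 𝒜 (Ideal.homogeneous_span 𝒜 S fun w hw => hw.1) hm hh
    fun x hx hle => by
      obtain ⟨w, hw, hwc⟩ := H x hx
      refine hw ?_
      rw [← DirectSum.sum_support_decompose 𝒜 w]
      refine sum_mem fun i _ => hle (Ideal.subset_span ⟨⟨i, SetLike.coe_mem _⟩, ?_⟩)
      have hz : (DirectSum.decompose 𝒜 (w * c) (i + e) : A) = DirectSum.decompose 𝒜 w i * c := by
        rw [DirectSum.coe_decompose_mul_of_right_mem 𝒜 (i + e) hc, if_pos (Nat.le_add_left e i),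
          Nat.add_sub_cancel]
      rw [← hz, hwc, DirectSum.decompose_zero]
      rfl
  refine ⟨N, ?_⟩
  generalize h ^ N = y at hN
  induction hN using Submodule.span_induction with
  | mem w hw => exact hw.2
  | zero => exact zero_mul c
  | add a b _ _ ha hb => rw [add_mul, ha, hb, add_zero]
  | smul r a _ ha => rw [smul_eq_mul, mul_assoc, ha, mul_zero]

/-- A local fraction for a section, on a basic open. -/
theorem exists_local_frac {n : ℤ} {U : (Proj 𝒜).Opens} (s : Sec (𝒜 := 𝒜) n U) (x : ProjectiveSpectrum 𝒜)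
    (hx : x ∈ U) :
    ∃ (e i : ℕ) (g a : A), 0 < e ∧ g ∈ 𝒜 e ∧ a ∈ 𝒜 i ∧ (i : ℤ) = e + n ∧ x ∈ Proj.basicOpen 𝒜 g ∧
      Proj.basicOpen 𝒜 g ≤ U ∧ ∀ y (hy : y ∈ U) (hg : g ∉ (y : ProjectiveSpectrum 𝒜).asHomogeneousIdeal),
        val s y hy = Localization.mk a ⟨g, hg⟩ := by
  rcases s.2 ⟨x, hx⟩ with ⟨V, hxV, ι, i, j, ⟨a, ha⟩, ⟨t, ht⟩, nin, cond, w⟩
  replace cond : (i : ℤ) = j + n ∨ a = 0 := cond
  obtain ⟨_, ⟨g₀, rfl⟩, hxg, hgV⟩ := TopologicalSpace.Opens.isBasis_iff_nbhd.1 (Proj.isBasis_basicOpen 𝒜) hxV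
  rw [Proj.basicOpen_eq_iSup_proj] at hxg hgV
  obtain ⟨l, hl⟩ := TopologicalSpace.Opens.mem_iSup.1 hxg
  have hcov : x ∈ (⨆ g : {g : A // ∃ k : ℕ, 0 < k ∧ g ∈ 𝒜 k}, Proj.basicOpen 𝒜 g.1) := by
    rw [EGA2.iSup_basicOpen_pos 𝒜]; trivial
  obtain ⟨⟨g₁, k, hk, hg₁⟩, hx₁⟩ := TopologicalSpace.Opens.mem_iSup.1 hcov
  -- enlarge the degree
  let p := n.natAbs + 1
  let g := GradedRing.proj 𝒜 l g₀ * g₁ ^ p
  have hg : g ∈ 𝒜 (l + p * k) := SetLike.mul_mem_graded (SetLike.coe_mem _) (pow_mem_smul 𝒜 hg₁ p)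
  have hgle : Proj.basicOpen 𝒜 g ≤ V := by
    rw [Proj.basicOpen_mul]
    exact inf_le_left.trans ((le_iSup (fun i => Proj.basicOpen 𝒜 (GradedRing.proj 𝒜 i g₀)) l).trans hgV)
  have hxg' : g ∉ x.asHomogeneousIdeal := fun h =>
    (x.isPrime.mem_or_mem h).elim hl (fun h' => pow_notMem 𝒜 hx₁ p h')
  have hpk : n.natAbs < p * k := by
    calc n.natAbs < p := Nat.lt_succ_self _
      _ = p * 1 := (mul_one p).symm
      _ ≤ p * k := Nat.mul_le_mul_left p hk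
  refine ⟨l + p * k + j, ((l + p * k + j : ℕ) + n).toNat, g * t, g * a, by omega,
    SetLike.mul_mem_graded hg ht, ?_, by omega, fun h => (x.isPrime.mem_or_mem h).elim hxg' (nin ⟨x, hxV⟩),
    (Proj.basicOpen_mono 𝒜 _ _ (dvd_mul_right g t)).trans (hgle.trans ι.le), fun y hy hgt => ?_⟩
  · rcases cond with hd | hd
    · convert SetLike.mul_mem_graded hg ha using 2
      omega
    · rw [hd, mul_zero]; exact zero_mem _
  · have hyg : g ∉ y.asHomogeneousIdeal := fun h => hgt (Ideal.mul_mem_right _ _ h)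
    have hyV : y ∈ V := hgle hyg
    refine (show val s y hy = Localization.mk a ⟨t, nin ⟨y, hyV⟩⟩ from w ⟨y, hyV⟩).trans ?_
    exact (mk_eq_iff 𝒜 _ _).2 ⟨1, one_notMem_prime 𝒜 y, by ring⟩

/-- A section over `D₊(h)` is a fraction `a / h ^ k`. -/
theorem exists_eq_frac_of_pos {h : A} {m : ℕ} (hm : 0 < m) (hh : h ∈ 𝒜 m) {n : ℤ}
    (s : Sec (𝒜 := 𝒜) n (Proj.basicOpen 𝒜 h)) :
    ∃ (i k : ℕ) (a : A), a ∈ 𝒜 i ∧ (i : ℤ) = k * m + n ∧
      ∀ x (hx : x ∈ Proj.basicOpen 𝒜 h), val s x hx = Localization.mk a ⟨h ^ k, pow_notMem 𝒜 hx k⟩ := by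
  classical
  let U := Proj.basicOpen 𝒜 h
  choose e i g a he hg ha hdeg hxg hgU hval using fun x : U => exists_local_frac 𝒜 s x.1 x.2
  obtain ⟨T, hT⟩ := (Proj.isAffineOpen_basicOpen 𝒜 h hh hm).isCompact.elim_finite_subcover
    (fun x : U => ((Proj.basicOpen 𝒜 (g x) : (Proj 𝒜).Opens) : Set (Proj 𝒜)))
    (fun x => (Proj.basicOpen 𝒜 (g x)).2) (fun x hx => Set.mem_iUnion.2 ⟨⟨x, hx⟩, hxg ⟨x, hx⟩⟩)
  have hcross : ∀ x y : T, ∃ N : ℕ, (g x.1 * g y.1) ^ N * (g y.1 * a x.1 - g x.1 * a y.1) = 0 := fun x y => by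
    refine exists_pow_mul_eq_zero_of_forall 𝒜 (m := e x.1 + e y.1) (e := e y.1 + i x.1) (by have := he x.1; omega)
      (SetLike.mul_mem_graded (hg _) (hg _)) (sub_mem (SetLike.mul_mem_graded (hg _) (ha _)) ?_) fun z hz => ?_
    · convert SetLike.mul_mem_graded (hg x.1) (ha y.1) using 2
      have := hdeg x.1; have := hdeg y.1; omega
    · have hzx : g x.1 ∉ z.asHomogeneousIdeal := fun h' => hz (Ideal.mul_mem_right _ _ h')
      have hzy : g y.1 ∉ z.asHomogeneousIdeal := fun h' => hz (Ideal.mul_mem_left _ _ h')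
      have hzU : z ∈ U := hgU x.1 hzx
      obtain ⟨w, hw, hwe⟩ := (mk_eq_iff 𝒜 _ _).1 ((hval x.1 z hzU hzx).symm.trans (hval y.1 z hzU hzy))
      exact ⟨w, hw, by rw [mul_sub, hwe, sub_self]⟩
  choose N hN using hcross
  let M := ∑ p : T × T, N p.1 p.2
  let g' : T → A := fun x => g x.1 ^ (M + 1)
  let a' : T → A := fun x => g x.1 ^ M * a x.1
  have hg' : ∀ x, g' x ∈ 𝒜 ((M + 1) * e x.1) := fun x => pow_mem_smul 𝒜 (hg _) _
  have ha' : ∀ x : T, a' x ∈ 𝒜 (M * e x.1 + i x.1) := fun x =>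
    SetLike.mul_mem_graded (pow_mem_smul 𝒜 (hg _) _) (ha _)
  have hg'a : ∀ x y : T, g' y * a' x = g' x * a' y := fun x y => by
    have hle : N x y ≤ M := Finset.single_le_sum (f := fun p : T × T => N p.1 p.2)
      (fun p _ => Nat.zero_le _) (Finset.mem_univ (x, y))
    refine sub_eq_zero.1 ?_
    calc g' y * a' x - g' x * a' y
        = (g x.1 * g y.1) ^ (M - N x y) * ((g x.1 * g y.1) ^ N x y * (g y.1 * a x.1 - g x.1 * a y.1)) := by
          rw [← mul_assoc ((g x.1 * g y.1) ^ (M - N x y)), ← pow_add, Nat.sub_add_cancel hle]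
          simp only [g', a']; ring
      _ = 0 := by rw [hN, mul_zero]
  obtain ⟨k₀, hk₀⟩ := exists_pow_mem_of_forall 𝒜 (I := Ideal.span (Set.range g'))
    (Ideal.homogeneous_span 𝒜 _ (by rintro _ ⟨x, rfl⟩; exact ⟨_, hg' x⟩)) hm hh fun z hz hle => by
      obtain ⟨x, hxT, hzx⟩ := Set.mem_iUnion₂.1 (hT (show z ∈ (U : Set (Proj 𝒜)) from hz))
      exact pow_notMem 𝒜 hzx (M + 1) (hle (Ideal.subset_span ⟨⟨x, hxT⟩, rfl⟩))
  let k := k₀ + n.natAbs
  have hk : h ^ k ∈ Ideal.span (Set.range g') := by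
    simp only [k, pow_add]; exact Ideal.mul_mem_right _ _ hk₀
  obtain ⟨c, hc⟩ := (Submodule.mem_span_range_iff_exists_fun A).1 hk
  let E : T → ℕ := fun x => (M + 1) * e x.1
  let c' : T → A := fun x => if E x ≤ k * m then (DirectSum.decompose 𝒜 (c x) (k * m - E x) : A) else 0
  have hc' : ∑ x, c' x * g' x = h ^ k := by
    calc ∑ x, c' x * g' x = ∑ x, GradedRing.proj 𝒜 (k * m) (c x • g' x) := by
          refine Finset.sum_congr rfl fun x _ => ?_
          rw [GradedRing.proj_apply, smul_eq_mul, DirectSum.coe_decompose_mul_of_right_mem 𝒜 (k * m) (hg' x)]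
          simp only [c', E]
          split_ifs <;> simp
      _ = h ^ k := by
          rw [← map_sum, hc, GradedRing.proj_apply, DirectSum.decompose_of_mem_same 𝒜 (pow_mem_smul 𝒜 hh k)]
  have hkn : n.natAbs ≤ k * m := (Nat.le_add_left _ _).trans (Nat.le_mul_of_pos_right k hm)
  refine ⟨((k * m : ℕ) + n).toNat, k, ∑ x, c' x * a' x, sum_mem fun x _ => ?_, by push_cast; omega,
    fun z hz => ?_⟩
  · simp only [c']
    split_ifs with hle
    · convert SetLike.mul_mem_graded (DirectSum.decompose 𝒜 (c x) (k * m - E x)).2 (ha' x) using 2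
      have := hdeg x.1
      have hE : E x = M * e x.1 + e x.1 := by simp [E]; ring
      generalize k * m = P at *
      generalize M * e x.1 = Q at *
      omega
    · rw [zero_mul]; exact zero_mem _
  · obtain ⟨x, hxT, hzx⟩ := Set.mem_iUnion₂.1 (hT hz)
    refine (hval x z hz hzx).trans ((mk_eq_iff 𝒜 _ _).2 ⟨g x ^ M, pow_notMem 𝒜 hzx M, ?_⟩)
    have key : g' ⟨x, hxT⟩ * (∑ y, c' y * a' y) = h ^ k * a' ⟨x, hxT⟩ := by
      rw [← hc', Finset.mul_sum, Finset.sum_mul]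
      exact Finset.sum_congr rfl fun y _ => by rw [mul_left_comm, hg'a]; ring
    calc g x ^ M * (h ^ k * a x) = h ^ k * a' ⟨x, hxT⟩ := by simp only [a']; ring
      _ = g' ⟨x, hxT⟩ * (∑ y, c' y * a' y) := key.symm
      _ = _ := by simp only [g']; ring

/-- A fraction zero on `D₊(h)` has numerator killed by a power of `h`. -/
theorem exists_pow_mul_eq_zero_of_mk {h : A} {m : ℕ} (hm : 0 < m) (hh : h ∈ 𝒜 m) {i : ℕ} {a : A} (ha : a ∈ 𝒜 i)
    (H : ∀ x : ProjectiveSpectrum 𝒜, h ∉ x.asHomogeneousIdeal → ∃ (s : A) (hs : s ∉ x.asHomogeneousIdeal),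
      Localization.mk a (⟨s, hs⟩ : x.asHomogeneousIdeal.toIdeal.primeCompl) = 0) :
    ∃ N : ℕ, h ^ N * a = 0 :=
  exists_pow_mul_eq_zero_of_forall 𝒜 hm hh ha fun x hx => by
    obtain ⟨s, hs, e⟩ := H x hx
    rw [← Localization.mk_zero (⟨1, one_notMem_prime 𝒜 x⟩ : x.asHomogeneousIdeal.toIdeal.primeCompl), mk_eq_iff] at e
    obtain ⟨w, hw, he⟩ := e
    exact ⟨w, hw, by simpa using he⟩

end Groth.Agent.Twist
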