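import Groth.Agent.Lib.Twist.Gen
import Groth.Agent.Lib.ModM1.Stalk
import Groth.Agent.Lib.ModM1.Coh
import Mathlib.LinearAlgebra.Dimension.Free
import Mathlib.LinearAlgebra.Dimension.Localization
import Mathlib.RingTheory.LocalRing.Module
import Mathlib.RingTheory.Flat.EquationalCriterion
import Mathlib.RingTheory.Flat.Localization
import Mathlib.RingTheory.LocalProperties.Projective

/-!
Elements generating a module freely away from the zero locus of a function, and invertible modules.
-/

set_option autoImplicit false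

universe u

open CategoryTheory Limits AlgebraicGeometry Opposite TopologicalSpace

namespace Groth.Agent.Twist

open Groth.Agent.M1

section alg

variable {R : Type u} [CommRing R] {M : Type u} [AddCommGroup M] [Module R M]

/-- `q` freely generates `M` after inverting `r`. -/
def LocGen (q : M) (r : R) : Prop :=
  (∀ y : M, ∃ (N : ℕ) (c : R), r ^ N • y = c • q) ∧ ∀ c : R, c • q = 0 → ∃ N : ℕ, r ^ N * c = 0

theorem LocGen.bijective {q : M} {r : R} (h : LocGen q r) (p : Ideal R) [p.IsPrime] (hr : r ∉ p) :
    Function.Bijective (LinearMap.toSpanSingleton (Localization.AtPrime p) (LocalizedModule p.primeCompl M)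
      (LocalizedModule.mkLinearMap p.primeCompl M q)) := by
  constructor
  · rw [← LinearMap.ker_eq_bot, LinearMap.ker_eq_bot']
    intro a ha
    obtain ⟨c, t, rfl⟩ := IsLocalization.exists_mk'_eq p.primeCompl a
    rw [LinearMap.toSpanSingleton_apply, LocalizedModule.mkLinearMap_apply,
      ← Localization.mk_eq_mk', LocalizedModule.mk_smul_mk] at ha
    rw [← LocalizedModule.zero_mk 1, LocalizedModule.mk_eq] at ha
    rw [← Localization.mk_eq_mk']
    obtain ⟨u, hu⟩ := ha
    simp only [smul_zero, one_smul] at hu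
    obtain ⟨N, hN⟩ := h.2 ((u : R) * c) (by rw [mul_smul]; exact hu)
    rw [← Localization.mk_zero t, Localization.mk_eq_mk_iff, Localization.r_iff_exists]
    exact ⟨⟨r ^ N * u, p.primeCompl.mul_mem (p.primeCompl.pow_mem hr N) u.2⟩, by
      show r ^ N * (u : R) * ((t : R) * c) = r ^ N * (u : R) * ((t : R) * 0)
      rw [mul_zero, mul_zero, show r ^ N * (u : R) * ((t : R) * c) = (t : R) * (r ^ N * ((u : R) * c)) by ring, hN,
        mul_zero]⟩
  · intro z
    induction z using LocalizedModule.induction_on with
    | h y t =>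
      obtain ⟨N, c, hc⟩ := h.1 y
      refine ⟨Localization.mk c (t * ⟨r ^ N, p.primeCompl.pow_mem hr N⟩), ?_⟩
      rw [LinearMap.toSpanSingleton_apply, LocalizedModule.mkLinearMap_apply, LocalizedModule.mk_smul_mk, mul_one,
        LocalizedModule.mk_eq]
      refine ⟨1, ?_⟩
      rw [one_smul, one_smul, ← hc]
      show (t : R) • r ^ N • y = ((t : R) * r ^ N) • y
      rw [mul_smul]

/-- A finitely presented module with local generators is invertible. -/
theorem projective_and_finrank_of_locGen [Module.FinitePresentation R M]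
    (h : ∀ p : PrimeSpectrum R, ∃ (q : M) (r : R), r ∉ p.asIdeal ∧ LocGen q r) :
    Module.Projective R M ∧ ∀ p : PrimeSpectrum R, Module.finrank (Localization.AtPrime p.asIdeal)
      (LocalizedModule p.asIdeal.primeCompl M) = 1 := by
  have e : ∀ p : PrimeSpectrum R, Nonempty (Localization.AtPrime p.asIdeal ≃ₗ[Localization.AtPrime p.asIdeal]
      LocalizedModule p.asIdeal.primeCompl M) := fun p => by
    obtain ⟨q, r, hr, hq⟩ := h p
    exact ⟨LinearEquiv.ofBijective _ (hq.bijective p.asIdeal hr)⟩
  have : Module.Flat R M := Module.flat_of_localized_maximal M fun P hP =>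
    haveI := Module.Flat.of_linearEquiv (e ⟨P, hP.isPrime⟩).some.symm
    Module.Flat.trans R (Localization.AtPrime P) _
  refine ⟨Module.Flat.projective_of_finitePresentation, fun p => ?_⟩
  rw [← (e p).some.finrank_eq, Module.finrank_self]

/-- An invertible module is generated locally by one of any finite set of generators. -/
theorem exists_locGen {ι : Type*} [Fintype ι] (g : ι → M) (hg : Submodule.span R (Set.range g) = ⊤)
    [Module.Projective R M] (hrk : ∀ p : PrimeSpectrum R, Module.finrank (Localization.AtPrime p.asIdeal)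
      (LocalizedModule p.asIdeal.primeCompl M) = 1) (p : PrimeSpectrum R) :
    ∃ (i : ι) (r : R), r ∉ p.asIdeal ∧ LocGen (g i) r := by
  classical
  have : Module.Finite R M := ⟨⟨Finset.univ.image g, by rw [Finset.coe_image, Finset.coe_univ, Set.image_univ, hg]⟩⟩
  let S := p.asIdeal.primeCompl
  let Rp := Localization.AtPrime p.asIdeal
  let mk := LocalizedModule.mkLinearMap S M
  have : Module.Free Rp (LocalizedModule S M) := Module.free_of_flat_of_isLocalRing
  obtain ⟨e⟩ := Module.nonempty_linearEquiv_of_finrank_eq_one (hrk p)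
  obtain ⟨i, hi⟩ : ∃ i, IsUnit (e.symm (mk (g i))) := by
    by_contra hno
    have hle : ∀ y : M, e.symm (mk y) ∈ IsLocalRing.maximalIdeal Rp := fun y => by
      have hy : y ∈ Submodule.span R (Set.range g) := by rw [hg]; trivial
      induction hy using Submodule.span_induction with
      | mem y hy => obtain ⟨i, rfl⟩ := hy; exact fun hu => hno ⟨i, hu⟩
      | zero => rw [map_zero, map_zero]; exact zero_mem _
      | add a b _ _ ha hb => rw [map_add, map_add]; exact add_mem ha hb
      | smul c a _ ha =>
        rw [map_smul, ← IsScalarTower.algebraMap_smul Rp c (mk a), map_smul]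
        exact Ideal.mul_mem_left _ _ ha
    obtain ⟨⟨y, t⟩, hy⟩ := IsLocalizedModule.surj S mk (e 1)
    have h1 : (t : R) • (1 : Rp) ∈ IsLocalRing.maximalIdeal Rp := by
      have h2 : e.symm ((t : R) • e 1) = (t : R) • (1 : Rp) := by
        rw [← IsScalarTower.algebraMap_smul Rp (t : R) (e 1), map_smul, LinearEquiv.symm_apply_apply,
          IsScalarTower.algebraMap_smul]
      rw [← h2]
      exact (congrArg e.symm hy) ▸ hle y
    rw [Algebra.smul_def, mul_one] at h1
    exact h1 (IsLocalization.map_units Rp t)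
  set q := g i with hq
  have hbij : Function.Bijective fun c : Rp => c • mk q := by
    obtain ⟨v, hv⟩ := hi
    have : (fun c : Rp => c • mk q) = fun c => e (c * v) := funext fun c => by
      rw [← smul_eq_mul, map_smul, hv, LinearEquiv.apply_symm_apply]
    rw [this]
    exact e.bijective.comp (IsUnit.isUnit_iff_mulRight_bijective.mp v.isUnit)
  have hsur : ∀ y : M, ∃ (t : S) (c : R), (t : R) • y = c • q := fun y => by
    obtain ⟨a, ha⟩ := hbij.2 (mk y)
    obtain ⟨c, t, rfl⟩ := IsLocalization.exists_mk'_eq S a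
    have h2 : mk ((t : R) • y) = mk (c • q) := by
      rw [map_smul, map_smul, ← ha, ← IsScalarTower.algebraMap_smul Rp (t : R), ← IsScalarTower.algebraMap_smul Rp c, smul_smul,
        mul_comm, IsLocalization.mk'_spec]
    obtain ⟨u, hu⟩ := (IsLocalizedModule.eq_iff_exists S mk).1 h2
    exact ⟨u * t, (u : R) * c, by rw [Submonoid.coe_mul, mul_smul, mul_smul]; exact hu⟩
  choose t c htc using fun j => hsur (g j)
  obtain ⟨σ, hσ⟩ := Module.projective_lifting_property (Fintype.linearCombination R g) LinearMap.id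
    (by rw [← LinearMap.range_eq_top, Fintype.range_linearCombination, hg])
  let T : R := ∏ j, (t j : R)
  have hT : T ∈ S := prod_mem fun j _ => (t j).2
  let c' : ι → R := fun j => (∏ k ∈ Finset.univ.erase j, (t k : R)) * c j
  have hTc : ∀ j, T • g j = c' j • q := fun j => by
    rw [mul_smul, ← htc, ← mul_smul, Finset.prod_erase_mul _ _ (Finset.mem_univ j)]
  let ψ : M →ₗ[R] R := (Fintype.linearCombination R c').comp σ
  have hψ : ∀ y, T • y = ψ y • q := fun y => by
    have := congrArg (fun φ : M →ₗ[R] M => T • φ y) hσ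
    simp only [LinearMap.comp_apply, LinearMap.id_apply, Fintype.linearCombination_apply] at this
    rw [← this, Finset.smul_sum]
    simp only [ψ, LinearMap.comp_apply, Fintype.linearCombination_apply, Finset.sum_smul]
    exact Finset.sum_congr rfl fun j _ => by rw [smul_comm, hTc, smul_eq_mul, mul_smul]; simp only [c', mul_smul]
  have hu : ψ q ∈ S := by
    have h0 : (T - ψ q) • q = 0 := by rw [sub_smul, hψ, sub_self]
    have h1 : algebraMap R Rp (T - ψ q) • mk q = (0 : Rp) • mk q := by
      rw [IsScalarTower.algebraMap_smul, ← map_smul, h0, map_zero, zero_smul]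
    have h2 := hbij.1 h1
    rw [map_sub, sub_eq_zero] at h2
    have h3 : IsUnit (algebraMap R Rp (ψ q)) := h2 ▸ IsLocalization.map_units Rp ⟨T, hT⟩
    exact (IsLocalization.AtPrime.isUnit_to_map_iff Rp p.asIdeal _).1 h3
  refine ⟨i, T * ψ q, S.mul_mem hT hu, fun y => ⟨1, ψ q * ψ y, ?_⟩, fun a ha => ⟨1, ?_⟩⟩
  · rw [pow_one, mul_comm, mul_smul, hψ, mul_smul]
  · have := congrArg ψ ha
    rw [map_smul, map_zero, smul_eq_mul] at this
    rw [pow_one, mul_assoc, mul_comm (ψ q), this, mul_zero]

end alg

section sheaf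

variable {X : Scheme.{u}}

/-- Algebraic local generators are generators of the sheaf. -/
theorem isGen_of_locGen (M : X.Modules) [Coh.IsQCoh M] {U : X.Opens} (hU : IsAffineOpen U) {q : Γ(M, U)}
    {r : Γ(X, U)} (h : LocGen q r) : IsGen M (X.basicOpen r) (mres M (X.basicOpen_le r) q) := by
  refine isGen_of_stalk fun x hx => ?_
  have hxU : x ∈ U := X.basicOpen_le r hx
  have hr : IsUnit (X.presheaf.germ U x hxU r) := (X.mem_basicOpen r x hxU).1 hx
  simp only [germ_mres]
  refine ⟨fun a b hab => ?_, fun a => ?_⟩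
  · replace hab : (a - b) • (M.presheaf.germ U x hxU q : M.presheaf.stalk x) = 0 := by
      rw [sub_smul, sub_eq_zero]; exact hab
    rw [← sub_eq_zero]
    generalize a - b = z at hab
    obtain ⟨c, u, hu, hc⟩ : ∃ c u : Γ(X, U), IsUnit (X.presheaf.germ U x hxU u) ∧
        X.presheaf.germ U x hxU u * z = X.presheaf.germ U x hxU c := by
      let := TopCat.Presheaf.algebra_section_stalk X.presheaf (⟨x, hxU⟩ : U)
      have := hU.isLocalization_stalk ⟨x, hxU⟩
      obtain ⟨c, t, rfl⟩ := IsLocalization.exists_mk'_eq (hU.primeIdealOf ⟨x, hxU⟩).asIdeal.primeCompl z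
      exact ⟨c, t, IsLocalization.map_units (X.presheaf.stalk x) t,
        IsLocalization.mk'_spec' (X.presheaf.stalk x) c t⟩
    have h0 : M.presheaf.germ U x hxU (c • q) = 0 := by
      rw [germ_smul, ← hc, mul_smul, hab, smul_zero]
    obtain ⟨v, hv, hv0⟩ := exists_smul_eq_zero_of_germ_eq_zero M hU hxU _ h0
    rw [← mul_smul] at hv0
    obtain ⟨N, hN⟩ := h.2 _ hv0
    have h1 := congrArg (X.presheaf.germ U x hxU) hN
    rw [map_mul, map_mul, map_pow, map_zero, (hr.pow N).mul_right_eq_zero, hv.mul_right_eq_zero, ← hc,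
      hu.mul_right_eq_zero] at h1
    exact h1
  · obtain ⟨u, m, hu, hm⟩ := exists_germ_smul_eq M hU hxU a
    obtain ⟨N, c, hc⟩ := h.1 m
    have h1 := congrArg (M.presheaf.germ U x hxU) hc
    rw [germ_smul, germ_smul, ← hm, map_pow, ← mul_smul] at h1
    obtain ⟨v, hv⟩ := (hr.pow N).mul hu
    refine ⟨↑v⁻¹ * X.presheaf.germ U x hxU c, ?_⟩
    show (↑v⁻¹ * X.presheaf.germ U x hxU c) • (M.presheaf.germ U x hxU q : M.presheaf.stalk x) = a
    rw [mul_smul, ← h1, ← hv, ← mul_smul, Units.inv_mul, one_smul]

end sheaf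

end Groth.Agent.Twist
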