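import Groth.Prelude.Def_ProjUP
import Groth.Agent.Lib.Twist.Gen
import Groth.Agent.Lib.Twist.Ample
import Groth.Agent.Lib.Twist.QCoh
import Groth.Agent.Lib.Twist.GlobalProjSpace
import Groth.Agent.Lib.Twist.Pullback
import Groth.Agent.Lib.EGA2.Dehom
import Groth.Agent.Lib.EGA2.Glue

/-!
The universal property of `Proj` of an algebra generated in degree one.
-/

set_option autoImplicit false

universe u

open CategoryTheory Limits AlgebraicGeometry Opposite TopologicalSpace HomogeneousLocalization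

namespace Groth.Agent.ProjUP

open Groth.Agent.M1 Groth.Agent.Twist

variable {R A : Type u} [CommRing R] [CommRing A] [Algebra R A] (𝒜 : ℕ → Submodule R A) [GradedAlgebra 𝒜]
variable {X Z : Scheme.{u}}

/-- `Proj 𝒜 ⟶ Spec R`. -/
noncomputable abbrev toBase : Proj 𝒜 ⟶ Spec (CommRingCat.of R) :=
  Proj.toSpecZero 𝒜 ≫ Spec.map (CommRingCat.ofHom (algebraMap R (𝒜 0)))

section ev

variable {f : A} (hf : f ∈ 𝒜 1)

/-- `a ↦ r^*(a / f ^ deg a)` on an open inside `r⁻¹ D₊(f)`. -/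
noncomputable def ev (r : X ⟶ Proj 𝒜) (U : X.Opens) (hU : U ≤ r ⁻¹ᵁ Proj.basicOpen 𝒜 f) : A →+* Γ(X, U) :=
  (Proj.awayToSection 𝒜 f ≫ r.appLE (Proj.basicOpen 𝒜 f) U hU).hom.comp (EGA2.dehom 𝒜 hf)

theorem ev_apply (r : X ⟶ Proj 𝒜) (U : X.Opens) (hU : U ≤ r ⁻¹ᵁ Proj.basicOpen 𝒜 f) (a : A) :
    ev 𝒜 hf r U hU a = r.appLE _ U hU (Proj.awayToSection 𝒜 f (EGA2.dehom 𝒜 hf a)) := rfl

theorem ev_self (r : X ⟶ Proj 𝒜) (U : X.Opens) (hU : U ≤ r ⁻¹ᵁ Proj.basicOpen 𝒜 f) :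
    ev 𝒜 hf r U hU f = 1 := by
  rw [ev_apply, EGA2.dehom_self, map_one, map_one]

theorem ev_res (r : X ⟶ Proj 𝒜) {U V : X.Opens} (hU : U ≤ r ⁻¹ᵁ Proj.basicOpen 𝒜 f) (h : V ≤ U) (a : A) :
    ores h (ev 𝒜 hf r U hU a) = ev 𝒜 hf r V (h.trans hU) a := by
  rw [ev_apply, ev_apply, ← ConcreteCategory.comp_apply]
  exact ConcreteCategory.congr_hom (Scheme.Hom.appLE_map r hU (homOfLE h).op) _

theorem ev_comp (g : Z ⟶ X) (r : X ⟶ Proj 𝒜) {U : X.Opens} {V : Z.Opens} (hU : U ≤ r ⁻¹ᵁ Proj.basicOpen 𝒜 f)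
    (hV : V ≤ g ⁻¹ᵁ U) (a : A) :
    g.appLE U V hV (ev 𝒜 hf r U hU a) = ev 𝒜 hf (g ≫ r) V (hV.trans (g.preimage_mono hU)) a := by
  rw [ev_apply, ev_apply, ← ConcreteCategory.comp_apply, Scheme.Hom.appLE_comp_appLE]

include hf in
theorem valO_awayToSection_dehom {a : A} {k : ℕ} (ha : a ∈ 𝒜 k) (x : ProjectiveSpectrum 𝒜)
    (hx : x ∈ Proj.basicOpen 𝒜 f) :
    valO (Proj.awayToSection 𝒜 f (EGA2.dehom 𝒜 hf a)) x hx =
      Localization.mk a ⟨f ^ k, pow_notMem 𝒜 hx k⟩ := by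
  rw [EGA2.dehom_of_mem 𝒜 hf ha]
  exact valO_awayToSection 𝒜 hf _ x hx (pow_notMem 𝒜 hx k)

theorem basicOpen_ev (r : X ⟶ Proj 𝒜) (U : X.Opens) (hU : U ≤ r ⁻¹ᵁ Proj.basicOpen 𝒜 f) {a : A} (ha : a ∈ 𝒜 1) :
    X.basicOpen (ev 𝒜 hf r U hU a) = U ⊓ r ⁻¹ᵁ Proj.basicOpen 𝒜 a := by
  rw [ev_apply, EGA2.dehom_of_mem 𝒜 hf ha]
  simp only [Scheme.Hom.appLE, ConcreteCategory.comp_apply]
  erw [Scheme.basicOpen_res]
  rw [← Scheme.preimage_basicOpen, basicOpen_awayToSection 𝒜 Nat.one_pos hf, Proj.basicOpen_mul,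
    Scheme.Hom.preimage_inf, ← inf_assoc, inf_eq_left.2 hU]

/-- The structure map on functions. -/
theorem ev_algebraMap (r : X ⟶ Proj 𝒜) (U : X.Opens) (hU : U ≤ r ⁻¹ᵁ Proj.basicOpen 𝒜 f) (c : R) :
    ev 𝒜 hf r U hU (algebraMap R A c) =
      ores (le_top : U ≤ ⊤) ((r ≫ toBase 𝒜).appTop ((Scheme.ΓSpecIso (CommRingCat.of R)).inv c)) := by
  have h0 : algebraMap R A c ∈ 𝒜 0 := SetLike.algebraMap_mem_graded 𝒜 c
  have e0 : (toBase 𝒜).appTop ((Scheme.ΓSpecIso (CommRingCat.of R)).inv c) =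
      (Proj.toSpecZero 𝒜).appTop ((Scheme.ΓSpecIso _).inv (algebraMap R (𝒜 0) c)) :=
    congrArg (Proj.toSpecZero 𝒜).appTop
      (ConcreteCategory.congr_hom (Scheme.ΓSpecIso_inv_naturality (CommRingCat.ofHom (algebraMap R (𝒜 0)))).symm c)
  have e1 : Proj.awayToSection 𝒜 f (EGA2.dehom 𝒜 hf (algebraMap R A c)) =
      ores (le_top : Proj.basicOpen 𝒜 f ≤ ⊤) ((toBase 𝒜).appTop ((Scheme.ΓSpecIso (CommRingCat.of R)).inv c)) := by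
    refine sectionO_ext fun x hx => ?_
    refine Eq.trans ?_ (valO_map 𝒜 (le_top : Proj.basicOpen 𝒜 f ≤ ⊤) _ x hx).symm
    rw [valO_awayToSection_dehom 𝒜 hf h0 x hx, e0, valO_toSpecZero 𝒜 _ x (one_notMem_prime 𝒜 x)]
    exact congrArg (Localization.mk _) (Subtype.ext (pow_zero f))
  rw [ev_apply, e1, Scheme.Hom.comp_appTop r (toBase 𝒜), ConcreteCategory.comp_apply]
  exact ConcreteCategory.congr_hom (Scheme.Hom.map_appLE r hU (homOfLE (le_top : Proj.basicOpen 𝒜 f ≤ ⊤)).op) _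

end ev

section sec

variable (r : X ⟶ Proj 𝒜)

/-- The pullback of `a / 1`. -/
noncomputable abbrev sec {a : A} (ha : a ∈ 𝒜 1) : Γ((Scheme.Modules.pullback r).obj (_root_.Twist.twist 𝒜 1), ⊤) :=
  _root_.ProjUP.pullSec r (_root_.Twist.twist 𝒜 1) (_root_.Twist.globalOf 𝒜 ⟨a, ha⟩)

theorem mres_sec {a : A} (ha : a ∈ 𝒜 1) (D : (Proj 𝒜).Opens) :
    mres ((Scheme.Modules.pullback r).obj (_root_.Twist.twist 𝒜 1)) (le_top : r ⁻¹ᵁ D ≤ ⊤) (sec 𝒜 r ha) =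
      M2.pullSec r (_root_.Twist.twist 𝒜 1) (U := D) (mres (_root_.Twist.twist 𝒜 1) (le_top : D ≤ ⊤) (gsec 𝒜 ⟨a, ha⟩)) :=
  (app_mres ((Scheme.Modules.pullbackPushforwardAdjunction r).unit.app (_root_.Twist.twist 𝒜 1))
    (le_top : D ≤ ⊤) (gsec 𝒜 ⟨a, ha⟩)).symm

theorem isGen_sec {f : A} (hf : f ∈ 𝒜 1) :
    IsGen ((Scheme.Modules.pullback r).obj (_root_.Twist.twist 𝒜 1)) (r ⁻¹ᵁ Proj.basicOpen 𝒜 f)
      (mres _ (le_top : r ⁻¹ᵁ Proj.basicOpen 𝒜 f ≤ ⊤) (sec 𝒜 r hf)) := by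
  rw [mres_sec 𝒜 r hf (Proj.basicOpen 𝒜 f)]
  refine IsGen.pullback r fun V hV => ?_
  simp only [mres_mres]
  exact bijective_smul_gsec 𝒜 ⟨f, hf⟩ V hV

theorem isGen_sec_of_le {f : A} (hf : f ∈ 𝒜 1) {U : X.Opens} (hU : U ≤ r ⁻¹ᵁ Proj.basicOpen 𝒜 f) :
    IsGen ((Scheme.Modules.pullback r).obj (_root_.Twist.twist 𝒜 1)) U (mres _ (le_top : U ≤ ⊤) (sec 𝒜 r hf)) := by
  have := (isGen_sec 𝒜 r hf).mres hU
  rwa [mres_mres] at this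

/-- `r^*(a) = r^*(a/f) r^*(f)`. -/
theorem sec_eq_ev_smul {f a : A} (hf : f ∈ 𝒜 1) (ha : a ∈ 𝒜 1) (U : X.Opens)
    (hU : U ≤ r ⁻¹ᵁ Proj.basicOpen 𝒜 f) :
    mres _ (le_top : U ≤ ⊤) (sec 𝒜 r ha) = ev 𝒜 hf r U hU a • mres _ (le_top : U ≤ ⊤) (sec 𝒜 r hf) := by
  let D := Proj.basicOpen 𝒜 f
  have hs : mres (_root_.Twist.twist 𝒜 1) (le_top : D ≤ ⊤) (gsec 𝒜 ⟨a, ha⟩) =
      Proj.awayToSection 𝒜 f (EGA2.dehom 𝒜 hf a) •
        mres (_root_.Twist.twist 𝒜 1) (le_top : D ≤ ⊤) (gsec 𝒜 ⟨f, hf⟩) := by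
    refine sec_ext fun x hx => ?_
    refine Eq.trans ?_ (val_smul _ _ x hx).symm
    rw [valO_awayToSection_dehom 𝒜 hf ha x hx]
    have h1 := one_notMem_prime 𝒜 x
    show Localization.mk a (⟨1, h1⟩ : x.asHomogeneousIdeal.toIdeal.primeCompl) =
      Localization.mk a _ * Localization.mk f ⟨1, h1⟩
    rw [Localization.mk_mul]
    refine (mk_eq_iff 𝒜 _ _).2 ⟨1, h1, ?_⟩
    show 1 * (f ^ 1 * 1 * a) = 1 * (1 * (a * f))
    ring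
  have h := congrArg (fun z => mres ((Scheme.Modules.pullback r).obj (_root_.Twist.twist 𝒜 1)) hU
    (M2.pullSec r (_root_.Twist.twist 𝒜 1) (U := D) z)) hs
  simp only [M2.pullSec_smul, ← mres_sec 𝒜 r ha D, ← mres_sec 𝒜 r hf D, mres_smul, mres_mres] at h
  exact h

theorem ev_mul_ev {f g a : A} (hf : f ∈ 𝒜 1) (hg : g ∈ 𝒜 1) (ha : a ∈ 𝒜 1) (U : X.Opens)
    (hU : U ≤ r ⁻¹ᵁ Proj.basicOpen 𝒜 f) (hU' : U ≤ r ⁻¹ᵁ Proj.basicOpen 𝒜 g) :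
    ev 𝒜 hg r U hU' a * ev 𝒜 hf r U hU g = ev 𝒜 hf r U hU a := by
  refine ((isGen_sec_of_le 𝒜 r hf hU) U le_rfl).1 ?_
  show (_ * _) • mres _ le_rfl (mres _ le_top (sec 𝒜 r hf)) = _ • mres _ le_rfl (mres _ le_top (sec 𝒜 r hf))
  rw [mres_id, mul_smul, ← sec_eq_ev_smul 𝒜 r hf hg U hU, ← sec_eq_ev_smul 𝒜 r hg ha U hU',
    ← sec_eq_ev_smul 𝒜 r hf ha U hU]

end sec

section ext

variable {M : Type u} (e : M → A) (he : ∀ m, e m ∈ 𝒜 1) (hgen : Algebra.adjoin R (Set.range e) = ⊤)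

include hgen in
theorem ringHom_ext_of_gen {S : Type u} [CommRing S] {φ ψ : A →+* S}
    (h1 : ∀ c, φ (algebraMap R A c) = ψ (algebraMap R A c)) (h2 : ∀ m, φ (e m) = ψ (e m)) : φ = ψ := by
  refine RingHom.ext fun a => ?_
  have ha : a ∈ Algebra.adjoin R (Set.range e) := by rw [hgen]; trivial
  induction ha using Algebra.adjoin_induction with
  | mem y hy => obtain ⟨m, rfl⟩ := hy; exact h2 m
  | algebraMap c => exact h1 c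
  | add y z _ _ hy hz => rw [map_add, map_add, hy, hz]
  | mul y z _ _ hy hz => rw [map_mul, map_mul, hy, hz]

theorem resLE_eq_of_ev_eq {f : A} (hf : f ∈ 𝒜 1) {r r' : X ⟶ Proj 𝒜} {U : X.Opens}
    (hU : U ≤ r ⁻¹ᵁ Proj.basicOpen 𝒜 f) (hU' : U ≤ r' ⁻¹ᵁ Proj.basicOpen 𝒜 f)
    (h : ∀ a, ev 𝒜 hf r U hU a = ev 𝒜 hf r' U hU' a) : U.ι ≫ r = U.ι ≫ r' := by
  rw [← Scheme.Hom.resLE_comp_ι r hU, ← Scheme.Hom.resLE_comp_ι r' hU']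
  congr 1
  have : IsAffine (Proj.basicOpen 𝒜 f) := Proj.isAffineOpen_basicOpen 𝒜 f hf Nat.one_pos
  refine ext_of_isAffine ?_
  rw [Scheme.Hom.appTop, Scheme.Hom.appTop, Scheme.Hom.resLE_app_top, Scheme.Hom.resLE_app_top]
  congr 2
  have : IsIso (Proj.awayToSection 𝒜 f) := by
    rw [← Proj.basicOpenIsoAway_hom 𝒜 f hf Nat.one_pos]; infer_instance
  rw [← cancel_epi (Proj.awayToSection 𝒜 f)]
  refine CommRingCat.hom_ext (RingHom.ext fun z => ?_)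
  obtain ⟨a, rfl⟩ := EGA2.dehom_surjective 𝒜 hf z
  exact h a

include hgen in
theorem ext_of_ev {r r' : X ⟶ Proj 𝒜} (hbase : r ≫ toBase 𝒜 = r' ≫ toBase 𝒜)
    (h : ∀ x : X, ∃ (m : M) (U : X.Opens) (hU : U ≤ r ⁻¹ᵁ Proj.basicOpen 𝒜 (e m))
      (hU' : U ≤ r' ⁻¹ᵁ Proj.basicOpen 𝒜 (e m)), x ∈ U ∧
        ∀ m', ev 𝒜 (he m) r U hU (e m') = ev 𝒜 (he m) r' U hU' (e m')) : r = r' := by
  choose m U hU hU' hx heq using h
  refine (X.openCoverOfIsOpenCover U (IsOpenCover.mk (top_le_iff.1 fun x _ => Opens.mem_iSup.2 ⟨x, hx x⟩))).hom_ext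
    _ _ fun x => ?_
  refine resLE_eq_of_ev_eq 𝒜 (he (m x)) (hU x) (hU' x) fun a => ?_
  refine RingHom.congr_fun (ringHom_ext_of_gen e hgen (fun c => ?_) (heq x)) a
  rw [ev_algebraMap, ev_algebraMap, hbase]

include hgen in
/-- Uniqueness in the universal property. -/
theorem ext_of_iso (hcov : ∀ y : Proj 𝒜, ∃ m, y ∈ Proj.basicOpen 𝒜 (e m)) {r r' : X ⟶ Proj 𝒜}
    (hbase : r ≫ toBase 𝒜 = r' ≫ toBase 𝒜)
    (τ : (Scheme.Modules.pullback r).obj (_root_.Twist.twist 𝒜 1) ⟶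
      (Scheme.Modules.pullback r').obj (_root_.Twist.twist 𝒜 1)) [IsIso τ]
    (hτ : ∀ m, τ.app ⊤ (sec 𝒜 r (he m)) = sec 𝒜 r' (he m)) : r = r' := by
  refine ext_of_ev 𝒜 e he hgen hbase fun x => ?_
  obtain ⟨m, hm⟩ := hcov (r x)
  obtain ⟨n, hn⟩ := hcov (r' x)
  let U := r ⁻¹ᵁ Proj.basicOpen 𝒜 (e m) ⊓ r' ⁻¹ᵁ Proj.basicOpen 𝒜 (e n)
  have hU : U ≤ r ⁻¹ᵁ Proj.basicOpen 𝒜 (e m) := inf_le_left
  have hU₂ : U ≤ r' ⁻¹ᵁ Proj.basicOpen 𝒜 (e n) := inf_le_right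
  have hrel : ∀ (a : M) (V : X.Opens) (hV : V ≤ U),
      mres _ (le_top : V ≤ ⊤) (sec 𝒜 r' (he a)) =
        ev 𝒜 (he m) r V (hV.trans hU) (e a) • mres _ (le_top : V ≤ ⊤) (sec 𝒜 r' (he m)) := fun a V hV => by
    have h := congrArg (τ.app V) (sec_eq_ev_smul 𝒜 r (he m) (he a) V (hV.trans hU))
    rwa [Scheme.Modules.Hom.app_smul, app_mres, app_mres, hτ, hτ] at h
  have hle : U ≤ r' ⁻¹ᵁ Proj.basicOpen 𝒜 (e m) := by
    intro y hy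
    let c := ev 𝒜 (he m) r U hU (e n)
    let d := ev 𝒜 (he n) r' U hU₂ (e m)
    have h1 : (c * d) • mres _ (le_top : U ≤ ⊤) (sec 𝒜 r' (he n)) = (1 : Γ(X, U)) • mres _ (le_top : U ≤ ⊤) (sec 𝒜 r' (he n)) := by
      rw [mul_smul, one_smul, ← sec_eq_ev_smul 𝒜 r' (he n) (he m) U hU₂, ← hrel n U le_rfl]
    have hcd : c * d = 1 := ((isGen_sec_of_le 𝒜 r' (he n) hU₂) U le_rfl).1 (by
      simpa only [mres_id] using h1)
    have hd : X.basicOpen d = U := X.basicOpen_of_isUnit (IsUnit.of_mul_eq_one_right _ hcd)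
    rw [basicOpen_ev 𝒜 (he n) r' U hU₂ (he m)] at hd
    exact (hd.ge hy).2
  refine ⟨m, U, hU, hle, ⟨hm, hn⟩, fun a => ((isGen_sec_of_le 𝒜 r' (he m) hle) U le_rfl).1 ?_⟩
  simp only [mres_id]
  rw [← hrel a U le_rfl, ← sec_eq_ev_smul 𝒜 r' (he m) (he a) U hle]

end ext

section chart

variable {f : A} (hf : f ∈ 𝒜 1)

/-- The morphism given by a ring map killing `f - 1`. -/
noncomputable def chartHom (ψ : A →+* Γ(Z, ⊤)) (hψ : ψ f = 1) : Z ⟶ Proj 𝒜 :=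
  Z.toSpecΓ ≫ Spec.map (CommRingCat.ofHom ((EGA2.dehom 𝒜 hf).liftOfSurjective (EGA2.dehom_surjective 𝒜 hf)
    ⟨ψ, by rw [EGA2.ker_dehom, Ideal.span_singleton_le_iff_mem, RingHom.mem_ker, map_sub, hψ, map_one, sub_self]⟩)) ≫
    Proj.awayι 𝒜 f hf Nat.one_pos

theorem top_le_preimage_chartHom (ψ : A →+* Γ(Z, ⊤)) (hψ : ψ f = 1) :
    (⊤ : Z.Opens) ≤ chartHom 𝒜 hf ψ hψ ⁻¹ᵁ Proj.basicOpen 𝒜 f := by
  intro z _
  rw [← Proj.opensRange_awayι 𝒜 f hf Nat.one_pos]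
  exact ⟨_, rfl⟩

theorem ev_chartHom (ψ : A →+* Γ(Z, ⊤)) (hψ : ψ f = 1) (a : A) :
    ev 𝒜 hf (chartHom 𝒜 hf ψ hψ) ⊤ (top_le_preimage_chartHom 𝒜 hf ψ hψ) a = ψ a := by
  set φ := (EGA2.dehom 𝒜 hf).liftOfSurjective (EGA2.dehom_surjective 𝒜 hf)
    ⟨ψ, by rw [EGA2.ker_dehom, Ideal.span_singleton_le_iff_mem, RingHom.mem_ker, map_sub, hψ, map_one, sub_self]⟩
    with hφ
  have hle := top_le_preimage_chartHom 𝒜 hf ψ hψ
  have key : (⊤ : Z.Opens).toSpecΓ ≫ Spec.map (Proj.awayToSection 𝒜 f ≫ (chartHom 𝒜 hf ψ hψ).appLE _ ⊤ hle) =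
      (⊤ : Z.Opens).toSpecΓ ≫ Spec.map (CommRingCat.ofHom φ) := by
    rw [Spec.map_comp, Scheme.Opens.toSpecΓ_SpecMap_appLE_assoc]
    show Scheme.Hom.resLE _ _ _ hle ≫ Proj.basicOpenToSpec 𝒜 f = _
    rw [← Proj.basicOpenIsoSpec_hom 𝒜 f hf Nat.one_pos, ← Iso.eq_comp_inv, ← cancel_mono (Proj.basicOpen 𝒜 f).ι,
      Scheme.Hom.resLE_comp_ι, Category.assoc, Category.assoc, Proj.basicOpenIsoSpec_inv_ι,
      Scheme.Opens.toSpecΓ_top, Category.assoc]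
    rfl
  have key' : Proj.awayToSection 𝒜 f ≫ (chartHom 𝒜 hf ψ hψ).appLE _ ⊤ hle = CommRingCat.ofHom φ := by
    have := congrArg Scheme.Hom.appTop key
    simp only [Scheme.Hom.comp_appTop, Scheme.Opens.toSpecΓ_appTop] at this
    rw [Scheme.ΓSpecIso_naturality_assoc, Scheme.ΓSpecIso_naturality_assoc] at this
    simpa only [cancel_epi, cancel_mono] using this
  exact (RingHom.congr_fun (congrArg CommRingCat.Hom.hom key') _).trans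
    ((EGA2.dehom 𝒜 hf).liftOfSurjective_comp_apply (EGA2.dehom_surjective 𝒜 hf) _ a)

end chart

end Groth.Agent.ProjUP
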